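import Groth.Prelude.Def_FilD
import Mathlib.CategoryTheory.Abelian.Refinements
import Mathlib.CategoryTheory.Subobject.FactorThru
import Mathlib.CategoryTheory.Subobject.Lattice
import Mathlib.CategoryTheory.Limits.FunctorCategory.Basic

/-!
# Filtered objects: levels, graded pieces, strictness in elementwise form
-/

set_option autoImplicit false

universe v u

open CategoryTheory CategoryTheory.Limits Opposite

namespace Groth.Misc1.Fil

variable {A : Type u} [Category.{v} A] [Abelian A]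

/-- transition map from level `q` to level `p` -/
abbrev tr (F : ℤᵒᵖ ⥤ A) {p q : ℤ} (h : p ≤ q) : F.obj (op q) ⟶ F.obj (op p) :=
  F.map (homOfLE h).op

@[reassoc]
lemma tr_trans (F : ℤᵒᵖ ⥤ A) {p q r : ℤ} (h : p ≤ q) (h' : q ≤ r) :
    tr F h' ≫ tr F h = tr F (h.trans h') := by
  rw [← F.map_comp, ← op_comp, homOfLE_comp]

lemma tr_refl (F : ℤᵒᵖ ⥤ A) (p : ℤ) : tr F (le_refl p) = 𝟙 _ := by
  simp [tr]

@[reassoc]
lemma app_tr {F G : ℤᵒᵖ ⥤ A} (φ : F ⟶ G) {p q : ℤ} (h : p ≤ q) :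
    tr F h ≫ φ.app (op p) = φ.app (op q) ≫ tr G h :=
  φ.naturality _

/-- projection onto the graded piece -/
noncomputable abbrev grπ (F : ℤᵒᵖ ⥤ A) (p : ℤ) : F.obj (op p) ⟶ (FilD.gr A p).obj F :=
  cokernel.π _

@[reassoc]
lemma grπ_naturality {F G : ℤᵒᵖ ⥤ A} (φ : F ⟶ G) (p : ℤ) :
    grπ F p ≫ (FilD.gr A p).map φ = φ.app (op p) ≫ grπ G p := by
  simp [FilD.gr, grπ]

instance (F : ℤᵒᵖ ⥤ A) (p : ℤ) : Epi (grπ F p) := inferInstanceAs (Epi (cokernel.π _))

@[reassoc]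
lemma tr_grπ (F : ℤᵒᵖ ⥤ A) (p : ℤ) (h : p ≤ p + 1) : tr F h ≫ grπ F p = 0 :=
  cokernel.condition _

lemma grπ_eq_zero {F : ℤᵒᵖ ⥤ A} {p : ℤ} {T : A} (y : T ⟶ F.obj (op p)) (hy : y ≫ grπ F p = 0) :
    ∃ (T' : A) (π : T' ⟶ T) (_ : Epi π) (z : T' ⟶ F.obj (op (p + 1))),
      π ≫ y = z ≫ tr F (Int.le_add_one le_rfl) :=
  (CokernelCofork.IsColimit.comp_π_eq_zero_iff_up_to_refinements
    (cokernelIsCokernel (F.map (FilD.stepHom p))) y).mp hy

/-- All transition maps are monomorphisms. -/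
def MonoFil (F : ℤᵒᵖ ⥤ A) : Prop := ∀ ⦃p q : ℤᵒᵖ⦄ (f : p ⟶ q), Mono (F.map f)

lemma monoFil (X : FilD.FilF A) : MonoFil X.obj := X.property.1

lemma exists_bound (X : FilD.FilF A) : ∃ b : ℤ, ∀ p : ℤ, b ≤ p → IsZero (X.obj.obj (op p)) :=
  X.property.2.1

lemma exists_iso_bound (X : FilD.FilF A) : ∃ a : ℤ, ∀ {p q : ℤ} (h : p ≤ q), q ≤ a → IsIso (tr X.obj h) := by
  obtain ⟨a, ha⟩ := X.property.2.2
  exact ⟨a, fun h hq => ha _ hq⟩

/-- Elementwise strictness. -/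
def Str {F G : ℤᵒᵖ ⥤ A} (φ : F ⟶ G) : Prop :=
  ∀ ⦃p q : ℤ⦄ (h : p ≤ q) ⦃T : A⦄ (y : T ⟶ G.obj (op q)) (x : T ⟶ F.obj (op p)),
    y ≫ tr G h = x ≫ φ.app (op p) →
    ∃ (T' : A) (π : T' ⟶ T) (_ : Epi π) (x' : T' ⟶ F.obj (op q)), π ≫ y = x' ≫ φ.app (op q)

lemma factors_imageSubobject_iff {X Y T : A} (f : X ⟶ Y) (y : T ⟶ Y) :
    (imageSubobject f).Factors y ↔
      ∃ (T' : A) (π : T' ⟶ T) (_ : Epi π) (x : T' ⟶ X), π ≫ y = x ≫ f := by
  constructor
  · intro h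
    obtain ⟨T', π, hπ, x, hx⟩ :=
      surjective_up_to_refinements_of_epi (factorThruImageSubobject f) ((imageSubobject f).factorThru y h)
    refine ⟨T', π, hπ, x, ?_⟩
    have := hx =≫ (imageSubobject f).arrow
    simpa using this
  · rintro ⟨T', π, hπ, x, hx⟩
    haveI : StrongEpi π := strongEpi_of_epi π
    have sq : CommSq (x ≫ factorThruImageSubobject f) π (imageSubobject f).arrow y :=
      ⟨by rw [Category.assoc, imageSubobject_arrow_comp, hx]⟩
    rw [← sq.fac_right]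
    exact Subobject.factors_comp_arrow _

theorem isStrict_iff {F G : FilD.FilF A} (φ : F ⟶ G) : FilD.IsStrict φ ↔ Str φ.hom := by
  constructor
  · intro h p q hpq T y x hyx
    haveI : Mono (tr G.obj hpq) := monoFil G _
    have h1 : (imageSubobject (φ.hom.app (op q) ≫ tr G.obj hpq)).Factors (y ≫ tr G.obj hpq) := by
      rw [h p q hpq, Subobject.inf_factors]
      exact ⟨(factors_imageSubobject_iff _ _).mpr ⟨T, 𝟙 _, inferInstance, x, by rw [Category.id_comp, hyx]⟩,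
        (Subobject.mk_factors_iff _ _).mpr ⟨y, rfl⟩⟩
    obtain ⟨T', π, hπ, x', hx'⟩ := (factors_imageSubobject_iff _ _).mp h1
    refine ⟨T', π, hπ, x', ?_⟩
    rw [← cancel_mono (tr G.obj hpq), Category.assoc, Category.assoc, hx']
  · intro h p q hpq
    haveI : Mono (tr G.obj hpq) := monoFil G _
    apply le_antisymm
    · refine le_inf ?_ ?_
      · refine imageSubobject_le _ ((imageSubobject (φ.hom.app (op p))).factorThru
          (φ.hom.app (op q) ≫ tr G.obj hpq) ?_) (Subobject.factorThru_arrow _ _ _)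
        rw [← app_tr]
        exact imageSubobject_factors_comp_self _ _
      · exact imageSubobject_le_mk _ _ (φ.hom.app (op q)) rfl
    · refine Subobject.le_of_factors ?_
      generalize hi : ((imageSubobject (φ.hom.app (op p))) ⊓ Subobject.mk (tr G.obj hpq)).arrow = i
      have hf := hi ▸ (Subobject.factors_self
        ((imageSubobject (φ.hom.app (op p))) ⊓ Subobject.mk (tr G.obj hpq)))
      obtain ⟨hf₁, hf₂⟩ := (Subobject.inf_factors _).mp hf
      obtain ⟨y, hy⟩ : ∃ y : _ ⟶ G.obj.obj (op q), y ≫ tr G.obj hpq = i :=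
        (Subobject.mk_factors_iff _ _).mp hf₂
      obtain ⟨T₁, π₁, hπ₁, x, hx⟩ := (factors_imageSubobject_iff _ _).mp hf₁
      obtain ⟨T₂, π₂, hπ₂, x', hx'⟩ := h hpq (π₁ ≫ y) x (by rw [Category.assoc, hy, hx])
      rw [factors_imageSubobject_iff]
      refine ⟨T₂, π₂ ≫ π₁, epi_comp _ _, x', ?_⟩
      rw [← hy, Category.assoc, ← Category.assoc x', ← hx', Category.assoc, Category.assoc]

/-- Exactness on graded pieces at a filtered object whose filtration is bounded above gives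
exactness on every level. -/
theorem levels_exact {X Y Z : ℤᵒᵖ ⥤ A} (f : X ⟶ Y) (g : Y ⟶ Z) (w : f ≫ g = 0)
    (hZ : MonoFil Z) (hb : ∃ b : ℤ, ∀ p, b ≤ p → IsZero (Y.obj (op p)))
    (hgr : ∀ p, ((ShortComplex.mk f g w).map (FilD.gr A p)).Exact) (p : ℤ) :
    ∀ ⦃T : A⦄ (y : T ⟶ Y.obj (op p)), y ≫ g.app (op p) = 0 →
      ∃ (T' : A) (π : T' ⟶ T) (_ : Epi π) (x : T' ⟶ X.obj (op p)), π ≫ y = x ≫ f.app (op p) := by
  obtain ⟨b, hb⟩ := hb
  suffices ∀ (n : ℕ) (p : ℤ), b - n ≤ p → ∀ ⦃T : A⦄ (y : T ⟶ Y.obj (op p)), y ≫ g.app (op p) = 0 →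
      ∃ (T' : A) (π : T' ⟶ T) (_ : Epi π) (x : T' ⟶ X.obj (op p)), π ≫ y = x ≫ f.app (op p) from
    this (b - p).toNat p (by omega)
  intro n
  induction n with
  | zero =>
      intro p hp T y _
      exact ⟨T, 𝟙 _, inferInstance, 0, (hb p (by omega)).eq_of_tgt _ _⟩
  | succ n ih =>
      intro p hp T y hy
      have h0 : (y ≫ grπ Y p) ≫ (FilD.gr A p).map g = 0 := by
        rw [Category.assoc, grπ_naturality, reassoc_of% hy, zero_comp]
      obtain ⟨T₁, π₁, hπ₁, xb, hxb'⟩ : ∃ (T₁ : A) (π₁ : T₁ ⟶ T) (_ : Epi π₁)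
          (xb : T₁ ⟶ (FilD.gr A p).obj X), π₁ ≫ y ≫ grπ Y p = xb ≫ (FilD.gr A p).map f :=
        (hgr p).exact_up_to_refinements (y ≫ grπ Y p) h0
      obtain ⟨T₂, π₂, hπ₂, x, hx⟩ := surjective_up_to_refinements_of_epi (grπ X p) xb
      have h1 : (π₂ ≫ π₁ ≫ y - x ≫ f.app (op p)) ≫ grπ Y p = 0 := by
        rw [Preadditive.sub_comp, Category.assoc x, ← grπ_naturality, ← Category.assoc x, ← hx]
        simp only [Category.assoc, hxb', sub_self]
      obtain ⟨T₃, π₃, hπ₃, z, hz⟩ := grπ_eq_zero _ h1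
      haveI : Mono (tr Z (Int.le_add_one le_rfl : p ≤ p + 1)) := hZ _
      have hzg : z ≫ g.app (op (p + 1)) = 0 := by
        rw [← cancel_mono (tr Z (Int.le_add_one le_rfl : p ≤ p + 1)), Category.assoc, ← app_tr,
          ← Category.assoc, ← hz, zero_comp]
        have hw : f.app (op p) ≫ g.app (op p) = 0 := by rw [← NatTrans.comp_app, w]; rfl
        simp only [Category.assoc, Preadditive.comp_sub, Preadditive.sub_comp, hy, hw, comp_zero,
          sub_self]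
      obtain ⟨T₄, π₄, hπ₄, x', hx'⟩ := ih (p + 1) (by omega) z hzg
      refine ⟨T₄, π₄ ≫ π₃ ≫ π₂ ≫ π₁, inferInstance,
        π₄ ≫ π₃ ≫ x + x' ≫ tr X (Int.le_add_one le_rfl), ?_⟩
      have h3 := π₄ ≫= hz
      rw [reassoc_of% hx', Preadditive.comp_sub, Preadditive.comp_sub, sub_eq_iff_eq_add,
        ← app_tr] at h3
      rw [Preadditive.add_comp]
      simp only [Category.assoc]
      rw [h3, add_comm]

/-- A sequence which is exact on graded pieces has strict second map. -/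
theorem str_right {X Y Z : ℤᵒᵖ ⥤ A} (f : X ⟶ Y) (g : Y ⟶ Z) (w : f ≫ g = 0) (hZ : MonoFil Z)
    (hgr : ∀ p, ((ShortComplex.mk f g w).map (FilD.gr A p)).Exact) : Str g := by
  intro p q hpq
  induction q, hpq using Int.le_induction with
  | base => intro T y x hyx; exact ⟨T, 𝟙 _, inferInstance, x, by simpa [tr_refl] using hyx⟩
  | succ q hpq ih =>
      intro T y x hyx
      obtain ⟨T₁, π₁, hπ₁, x₁, hx₁⟩ := ih (y ≫ tr Z (Int.le_add_one le_rfl)) x
        (by rw [Category.assoc, tr_trans]; exact hyx)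
      have h0 : (x₁ ≫ grπ Y q) ≫ (FilD.gr A q).map g = 0 := by
        rw [Category.assoc, grπ_naturality, ← Category.assoc, ← hx₁]
        simp only [Category.assoc, tr_grπ, comp_zero]
      obtain ⟨T₂, π₂, hπ₂, wb, hwb'⟩ : ∃ (T₂ : A) (π₂ : T₂ ⟶ T₁) (_ : Epi π₂)
          (wb : T₂ ⟶ (FilD.gr A q).obj X), π₂ ≫ x₁ ≫ grπ Y q = wb ≫ (FilD.gr A q).map f :=
        (hgr q).exact_up_to_refinements _ h0
      obtain ⟨T₃, π₃, hπ₃, w', hw'⟩ := surjective_up_to_refinements_of_epi (grπ X q) wb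
      have h1 : (π₃ ≫ π₂ ≫ x₁ - w' ≫ f.app (op q)) ≫ grπ Y q = 0 := by
        rw [Preadditive.sub_comp, Category.assoc w', ← grπ_naturality, ← Category.assoc w', ← hw']
        simp only [Category.assoc, hwb', sub_self]
      obtain ⟨T₄, π₄, hπ₄, z, hz⟩ := grπ_eq_zero _ h1
      refine ⟨T₄, π₄ ≫ π₃ ≫ π₂ ≫ π₁, inferInstance, z, ?_⟩
      haveI : Mono (tr Z (Int.le_add_one le_rfl : q ≤ q + 1)) := hZ _
      rw [← cancel_mono (tr Z (Int.le_add_one le_rfl : q ≤ q + 1))]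
      conv_rhs => rw [Category.assoc, ← app_tr, ← Category.assoc, ← hz]
      have hw : f.app (op q) ≫ g.app (op q) = 0 := by rw [← NatTrans.comp_app, w]; rfl
      simp only [Category.assoc, Preadditive.comp_sub, Preadditive.sub_comp, hw, comp_zero, sub_zero]
      rw [hx₁]

/-- Exactness on levels and monomorphic transition maps of the target give a strict first map. -/
theorem str_left {X Y Z : ℤᵒᵖ ⥤ A} (f : X ⟶ Y) (g : Y ⟶ Z) (w : f ≫ g = 0) (hZ : MonoFil Z)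
    (hb : ∃ b : ℤ, ∀ p, b ≤ p → IsZero (Y.obj (op p)))
    (hgr : ∀ p, ((ShortComplex.mk f g w).map (FilD.gr A p)).Exact) : Str f := by
  intro p q hpq T y x hyx
  haveI : Mono (tr Z hpq) := hZ _
  refine levels_exact f g w hZ hb hgr q y ?_
  rw [← cancel_mono (tr Z hpq), Category.assoc, ← app_tr, ← Category.assoc, hyx, zero_comp,
    Category.assoc, ← NatTrans.comp_app, w]
  simp

/-- the kernel computed on levels -/
lemma kernel_app_lift {X Y : ℤᵒᵖ ⥤ A} (φ : X ⟶ Y) (p : ℤ) {T : A} (x : T ⟶ X.obj (op p))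
    (hx : x ≫ φ.app (op p) = 0) :
    ∃ k : T ⟶ (kernel φ).obj (op p), k ≫ (kernel.ι φ).app (op p) = x := by
  have hl := isLimitForkMapOfIsLimit' ((evaluation ℤᵒᵖ A).obj (op p)) (kernel.condition φ)
    (kernelIsKernel φ)
  exact ⟨(KernelFork.IsLimit.lift' hl x hx).1, (KernelFork.IsLimit.lift' hl x hx).2⟩

theorem str_iff_gr_kernel_exact {X Y : ℤᵒᵖ ⥤ A} (φ : X ⟶ Y) (hY : MonoFil Y) :
    Str φ ↔ ∀ p : ℤ,
      ((ShortComplex.mk (kernel.ι φ) φ (kernel.condition φ)).map (FilD.gr A p)).Exact := by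
  refine ⟨fun h p => ?_, fun h => str_right _ φ (kernel.condition φ) hY h⟩
  rw [ShortComplex.exact_iff_exact_up_to_refinements]
  intro T (xb : T ⟶ (FilD.gr A p).obj X) (hxb : xb ≫ (FilD.gr A p).map φ = 0)
  obtain ⟨T₁, π₁, hπ₁, x, hx⟩ := surjective_up_to_refinements_of_epi (grπ X p) xb
  have h0 : (x ≫ φ.app (op p)) ≫ grπ Y p = 0 := by
    rw [Category.assoc, ← grπ_naturality, ← Category.assoc, ← hx, Category.assoc, hxb, comp_zero]
  obtain ⟨T₂, π₂, hπ₂, y, hy⟩ := grπ_eq_zero _ h0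
  obtain ⟨T₃, π₃, hπ₃, x', hx'⟩ := h (Int.le_add_one le_rfl) y (π₂ ≫ x)
    (by rw [← hy]; simp only [Category.assoc])
  obtain ⟨k, hk⟩ := kernel_app_lift φ p (π₃ ≫ π₂ ≫ x - x' ≫ tr X (Int.le_add_one le_rfl)) (by
    have h3 := π₃ ≫= hy
    rw [reassoc_of% hx'] at h3
    simp only [Category.assoc, Preadditive.sub_comp, app_tr, h3, sub_self])
  refine ⟨T₃, π₃ ≫ π₂ ≫ π₁, inferInstance, k ≫ grπ _ p, ?_⟩
  change (π₃ ≫ π₂ ≫ π₁) ≫ xb = (k ≫ grπ (kernel φ) p) ≫ (FilD.gr A p).map (kernel.ι φ)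
  simp only [Category.assoc]
  rw [grπ_naturality, ← Category.assoc k, hk, Preadditive.sub_comp]
  simp only [Category.assoc, tr_grπ, comp_zero, sub_zero, hx]

end Groth.Misc1.Fil
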