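import Groth.Agent.Misc1.Fil.KerCoker
import Mathlib.Algebra.Homology.ShortComplex.HomologicalComplex
import Mathlib.Algebra.Homology.QuasiIso
import Mathlib.Algebra.Homology.Embedding.HomEquiv
import Mathlib.CategoryTheory.Limits.Shapes.BinaryBiproducts
import Mathlib.CategoryTheory.Preadditive.Biproducts

/-!
# Biproducts of filtered objects, and an elementwise criterion for filtered quasi-isomorphisms
-/

set_option autoImplicit false
set_option linter.style.haveILetI false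

universe v u

open CategoryTheory CategoryTheory.Limits Opposite

namespace Groth.Misc1.Fil

variable {A : Type u} [Category.{v} A] [Abelian A]

lemma isFinFil_biprod (X Y : FilD.FilF A) : FilD.IsFinFil A (X.obj ⊞ Y.obj) := by
  have tot : ∀ r, (biprod.fst : X.obj ⊞ Y.obj ⟶ X.obj).app r ≫ (biprod.inl : X.obj ⟶ X.obj ⊞ Y.obj).app r +
      (biprod.snd : X.obj ⊞ Y.obj ⟶ Y.obj).app r ≫ (biprod.inr : Y.obj ⟶ X.obj ⊞ Y.obj).app r = 𝟙 _ :=
    fun r => by
      rw [← NatTrans.comp_app, ← NatTrans.comp_app, ← NatTrans.app_add, biprod.total]; rfl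
  obtain ⟨b₁, hb₁⟩ := exists_bound X
  obtain ⟨b₂, hb₂⟩ := exists_bound Y
  obtain ⟨a₁, ha₁⟩ := X.property.2.2
  obtain ⟨a₂, ha₂⟩ := Y.property.2.2
  have hm : MonoFil (X.obj ⊞ Y.obj) := fun p q g => by
    rw [Preadditive.mono_iff_cancel_zero]
    intro T x hx
    haveI := monoFil X g
    haveI := monoFil Y g
    have h1 : x ≫ (biprod.fst : X.obj ⊞ Y.obj ⟶ X.obj).app p = 0 := by
      rw [← cancel_mono (X.obj.map g), Category.assoc, ← NatTrans.naturality, reassoc_of% hx]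
      simp
    have h2 : x ≫ (biprod.snd : X.obj ⊞ Y.obj ⟶ Y.obj).app p = 0 := by
      rw [← cancel_mono (Y.obj.map g), Category.assoc, ← NatTrans.naturality, reassoc_of% hx]
      simp
    rw [← Category.comp_id x, ← tot p, Preadditive.comp_add, reassoc_of% h1, reassoc_of% h2]
    simp
  refine ⟨hm, ⟨max b₁ b₂, fun p hp => ?_⟩, min a₁ a₂, fun p q g hp => ?_⟩
  · rw [IsZero.iff_id_eq_zero, ← tot, (hb₁ p (by omega)).eq_of_tgt ((biprod.fst : X.obj ⊞ Y.obj ⟶ X.obj).app (op p)) 0,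
      (hb₂ p (by omega)).eq_of_tgt ((biprod.snd : X.obj ⊞ Y.obj ⟶ Y.obj).app (op p)) 0]
    simp
  · haveI := ha₁ g (by omega)
    haveI := ha₂ g (by omega)
    haveI := hm g
    haveI : Epi ((X.obj ⊞ Y.obj).map g) := by
      refine epi_of_epi_fac (f := (biprod.fst : X.obj ⊞ Y.obj ⟶ X.obj).app q ≫ inv (X.obj.map g) ≫
          (biprod.inl : X.obj ⟶ X.obj ⊞ Y.obj).app p +
        (biprod.snd : X.obj ⊞ Y.obj ⟶ Y.obj).app q ≫ inv (Y.obj.map g) ≫
          (biprod.inr : Y.obj ⟶ X.obj ⊞ Y.obj).app p) (h := 𝟙 _) ?_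
      simp only [Preadditive.add_comp, Category.assoc, ← NatTrans.naturality, IsIso.inv_hom_id_assoc]
      exact tot q
    exact isIso_of_mono_of_epi _

noncomputable instance hasBinaryBiproduct (X Y : FilD.FilF A) : HasBinaryBiproduct X Y :=
  hasBinaryBiproduct_of_total
    { pt := ⟨X.obj ⊞ Y.obj, isFinFil_biprod X Y⟩
      fst := ObjectProperty.homMk biprod.fst
      snd := ObjectProperty.homMk biprod.snd
      inl := ObjectProperty.homMk biprod.inl
      inr := ObjectProperty.homMk biprod.inr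
      inl_fst := InducedCategory.hom_ext biprod.inl_fst
      inl_snd := InducedCategory.hom_ext biprod.inl_snd
      inr_fst := InducedCategory.hom_ext biprod.inr_fst
      inr_snd := InducedCategory.hom_ext biprod.inr_snd }
    (InducedCategory.hom_ext biprod.total)

noncomputable instance : HasBinaryBiproducts (FilD.FilF A) := ⟨fun X Y => hasBinaryBiproduct X Y⟩

/-- A cokernel sequence of functors stays exact after taking graded pieces. -/
lemma gr_cokernel_exact {X Y : ℤᵒᵖ ⥤ A} (φ : X ⟶ Y) (p : ℤ) ⦃T : A⦄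
    (y : T ⟶ (FilD.gr A p).obj Y) (hy : y ≫ (FilD.gr A p).map (cokernel.π φ) = 0) :
    ∃ (T' : A) (π : T' ⟶ T) (_ : Epi π) (x : T' ⟶ (FilD.gr A p).obj X),
      π ≫ y = x ≫ (FilD.gr A p).map φ := by
  haveI hπ : ∀ r, Epi ((cokernel.π φ).app r) := fun r => by
    haveI := preservesEpimorphisms_of_preservesColimitsOfShape ((evaluation ℤᵒᵖ A).obj r)
    exact inferInstanceAs (Epi (((evaluation ℤᵒᵖ A).obj r).map (cokernel.π φ)))
  obtain ⟨T₁, π₁, hπ₁, z, hz⟩ := surjective_up_to_refinements_of_epi (grπ Y p) y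
  have h0 : (z ≫ (cokernel.π φ).app (op p)) ≫ grπ (cokernel φ) p = 0 := by
    rw [Category.assoc, ← grπ_naturality, ← Category.assoc, ← hz, Category.assoc, hy, comp_zero]
  obtain ⟨T₂, π₂, hπ₂, c, hc⟩ := grπ_eq_zero _ h0
  obtain ⟨T₃, π₃, hπ₃, y', hy'⟩ := surjective_up_to_refinements_of_epi ((cokernel.π φ).app (op (p + 1))) c
  have h1 : (π₃ ≫ π₂ ≫ z - y' ≫ tr Y (Int.le_add_one le_rfl)) ≫ (cokernel.π φ).app (op p) = 0 := by
    simp only [Preadditive.sub_comp, Category.assoc, hc, app_tr, reassoc_of% hy', sub_self]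
  obtain ⟨T₄, π₄, hπ₄, x, hx⟩ :=
    (CokernelCofork.IsColimit.comp_π_eq_zero_iff_up_to_refinements
      (isColimitCoforkMapOfIsColimit' ((evaluation ℤᵒᵖ A).obj (op p)) (cokernel.condition φ)
        (cokernelIsCokernel φ)) _).mp h1
  refine ⟨T₄, π₄ ≫ π₃ ≫ π₂ ≫ π₁, inferInstance, x ≫ grπ X p, ?_⟩
  have h2 := congrArg (· ≫ grπ Y p) hx
  simp only [evaluation_obj_map, Preadditive.comp_sub, Preadditive.sub_comp, Category.assoc,
    tr_grπ, comp_zero, sub_zero] at h2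
  simp only [Category.assoc, grπ_naturality, hz, h2]

lemma gr_epi {X Y : ℤᵒᵖ ⥤ A} (φ : X ⟶ Y) (p : ℤ) [Epi (φ.app (op p))] :
    Epi ((FilD.gr A p).map φ) := by
  haveI : Epi (grπ X p ≫ (FilD.gr A p).map φ) := by rw [grπ_naturality]; exact epi_comp _ _
  exact epi_of_epi (grπ X p) _

/-- Exactness of the mapping cone, stated elementwise. -/
def ConeExact {K L : CochainComplex A ℤ} (φ : K ⟶ L) : Prop :=
  ∀ ⦃l n m : ℤ⦄, l + 1 = n → n + 1 = m → ∀ ⦃T : A⦄ (k : T ⟶ K.X m) (i : T ⟶ L.X n),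
    k ≫ K.d m (m + 1) = 0 → k ≫ φ.f m + i ≫ L.d n m = 0 →
    ∃ (T' : A) (π : T' ⟶ T) (_ : Epi π) (k' : T' ⟶ K.X n) (i' : T' ⟶ L.X l),
      π ≫ k = -(k' ≫ K.d n m) ∧ π ≫ i = k' ≫ φ.f n + i' ≫ L.d l n

lemma quasiIso_of_coneExact {K L : CochainComplex A ℤ} (φ : K ⟶ L) (h : ConeExact φ) :
    QuasiIso φ := by
  refine ⟨fun n => ?_⟩
  rw [quasiIsoAt_iff' φ (n - 1) n (n + 1) (by simp) (by simp),
    ShortComplex.quasiIso_iff]
  haveI : Mono (ShortComplex.homologyMap ((HomologicalComplex.shortComplexFunctor' A _ (n - 1) n (n + 1)).map φ)) := by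
    rw [ShortComplex.mono_homologyMap_iff_up_to_refinements]
    intro T (x : T ⟶ K.X n) (hx : x ≫ K.d n (n + 1) = 0) (y : T ⟶ L.X (n - 1))
      (hy : x ≫ φ.f n = y ≫ L.d (n - 1) n)
    obtain ⟨T', π, hπ, k', i', h1, -⟩ := h (show n - 2 + 1 = n - 1 by omega) (show n - 1 + 1 = n by omega)
      x (-y) hx (by rw [hy, Preadditive.neg_comp, add_neg_cancel])
    exact ⟨T', π, hπ, -k', h1.trans (Preadditive.neg_comp _ _).symm⟩
  haveI : Epi (ShortComplex.homologyMap ((HomologicalComplex.shortComplexFunctor' A _ (n - 1) n (n + 1)).map φ)) := by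
    rw [ShortComplex.epi_homologyMap_iff_up_to_refinements]
    intro T (y : T ⟶ L.X n) (hy : y ≫ L.d n (n + 1) = 0)
    obtain ⟨T', π, hπ, k', i', h1, h2⟩ := h (show n - 1 + 1 = n by omega) (rfl : n + 1 = n + 1)
      (0 : T ⟶ K.X (n + 1)) y zero_comp (by rw [zero_comp, zero_add, hy])
    rw [comp_zero, zero_eq_neg] at h1
    exact ⟨T', π, hπ, k', h1, i', h2⟩
  exact isIso_of_mono_of_epi _

end Groth.Misc1.Fil
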