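import Groth.Agent.Misc1.Fil.KerCoker
import Mathlib.CategoryTheory.Limits.Shapes.Biproducts
import Mathlib.CategoryTheory.Preadditive.Injective.Preserves

/-!
# Enough filtered injective objects
-/

set_option autoImplicit false

universe v u

open CategoryTheory CategoryTheory.Limits Opposite

namespace Groth.Misc1.Fil

variable {A : Type u} [Category.{v} A] [Abelian A]

attribute [local instance] Abelian.hasFiniteBiproducts

section Coinduced

variable (a : ℤ) {N : ℕ} (J : Fin N → A)

/-- indices which contribute to level `p` -/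
abbrev Idx (N : ℕ) (p : ℤ) : Type := {i : Fin N // p ≤ a + (i : ℤ)}

variable {a} in
/-- transition map -/
noncomputable def coindMap {p q : ℤ} (h : p ≤ q) :
    (⨁ fun i : Idx a N q => J i.1) ⟶ ⨁ fun i : Idx a N p => J i.1 :=
  biproduct.desc fun i => biproduct.ι (fun i : Idx a N p => J i.1) ⟨i.1, h.trans i.2⟩

/-- the filtered object `p ↦ ⨁_{a + i ≥ p} J i` -/
noncomputable def coind : ℤᵒᵖ ⥤ A where
  obj p := ⨁ fun i : Idx a N p.unop => J i.1
  map g := coindMap J (leOfHom g.unop)
  map_id p := by
    refine biproduct.hom_ext' _ _ fun i => ?_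
    simp [coindMap]
  map_comp g g' := by
    refine biproduct.hom_ext' _ _ fun i => ?_
    simp [coindMap]

variable {a} in
/-- retraction of the transition map -/
noncomputable def coindRetr {p q : ℤ} (h : p ≤ q) :
    (⨁ fun i : Idx a N p => J i.1) ⟶ ⨁ fun i : Idx a N q => J i.1 :=
  biproduct.lift fun i => biproduct.π (fun i : Idx a N p => J i.1) ⟨i.1, h.trans i.2⟩

lemma coindMap_retr {p q : ℤ} (h : p ≤ q) : coindMap (a := a) J h ≫ coindRetr J h = 𝟙 _ := by
  classical
  refine biproduct.hom_ext' _ _ fun i => biproduct.hom_ext _ _ fun j => ?_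
  simp only [coindMap, coindRetr, biproduct.ι_desc_assoc, Category.assoc, biproduct.lift_π,
    Category.id_comp, biproduct.ι_π]
  by_cases hij : i = j
  · subst hij; simp
  · rw [dif_neg hij]
    rw [dif_neg]
    intro hh
    exact hij (Subtype.ext (congrArg Subtype.val hh :))

lemma isFinFil_coind : FilD.IsFinFil A (coind a J) := by
  refine ⟨fun p q g => SplitMono.mono ⟨coindRetr J (leOfHom g.unop), coindMap_retr a J (leOfHom g.unop)⟩, ⟨a + N, fun p hp => ?_⟩,
    a, fun p q g hp => ?_⟩
  · rw [IsZero.iff_id_eq_zero]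
    refine biproduct.hom_ext' _ _ fun i => ?_
    exfalso
    have hi : p ≤ a + ((i.1 : ℕ) : ℤ) := i.2
    have := i.1.isLt
    omega
  · have hle : q.unop ≤ p.unop := leOfHom g.unop
    refine ⟨coindRetr J hle, coindMap_retr a J _, ?_⟩
    classical
    refine biproduct.hom_ext' _ _ fun i => biproduct.hom_ext _ _ fun j => ?_
    have hi : p.unop ≤ a + (i.1.val : ℤ) := by omega
    have key : biproduct.ι (fun i : Idx a N q.unop => J i.1) i ≫ coindRetr J hle =
        biproduct.ι (fun i : Idx a N p.unop => J i.1) ⟨i.1, hi⟩ := by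
      refine biproduct.hom_ext _ _ fun k => ?_
      simp only [coindRetr, Category.assoc, biproduct.lift_π, biproduct.ι_π]
      by_cases hk : i.1 = k.1
      · obtain ⟨k, hk'⟩ := k
        subst hk
        simp
      · rw [dif_neg (fun hh => hk (congrArg Subtype.val hh)), dif_neg (fun hh => hk (congrArg Subtype.val hh))]
    change (biproduct.ι (fun i : Idx a N q.unop => J i.1) i ≫ coindRetr J hle ≫ coindMap J hle) ≫ _ = _
    rw [reassoc_of% key]
    simp only [coindMap, biproduct.ι_desc]
    exact congrArg (· ≫ biproduct.π (fun i : Idx a N q.unop => J i.1) j) (Category.comp_id _).symm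

lemma isFilteredInjective_coind [∀ i, Injective (J i)] :
    FilD.IsFilteredInjective (A := A) ⟨coind a J, isFinFil_coind a J⟩ := by
  intro p
  let m := coindMap (a := a) J (Int.le_add_one le_rfl : p ≤ p + 1)
  let r := coindRetr (a := a) J (Int.le_add_one le_rfl : p ≤ p + 1)
  have hmr : m ≫ r = 𝟙 _ := coindMap_retr a J _
  let s : cokernel m ⟶ ⨁ fun i : Idx a N p => J i.1 :=
    cokernel.desc m (𝟙 _ - r ≫ m) (by rw [Preadditive.comp_sub, ← Category.assoc, hmr]; simp)
  have hs : s ≫ cokernel.π m = 𝟙 _ := by
    rw [← cancel_epi (cokernel.π m)]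
    simp [s, cokernel.π_desc_assoc, Preadditive.sub_comp]
  change Injective (cokernel m)
  exact (Retract.mk s (cokernel.π m) hs : Retract (cokernel m) _).injective

end Coinduced

theorem exists_embedding [EnoughInjectives A] (X : FilD.FilF A) :
    ∃ (I : FilD.FilF A) (u : X ⟶ I), FilD.IsFilteredInjective I ∧
      (∀ q, Mono (u.hom.app (op q))) ∧ Str u.hom := by
  classical
  obtain ⟨a, ha⟩ := exists_iso_bound X
  obtain ⟨b, hb⟩ := exists_bound X
  have hmono : ∀ {p q : ℤ} (h : p ≤ q), Mono (tr X.obj h) := fun h => monoFil X _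
  let W := X.obj.obj (op a)
  let e : ∀ p : ℤ, X.obj.obj (op p) ⟶ W := fun p =>
    haveI := ha (min_le_right p a) le_rfl
    tr X.obj (min_le_left p a) ≫ inv (tr X.obj (min_le_right p a))
  have he : ∀ {p q : ℤ} (h : p ≤ q), tr X.obj h ≫ e p = e q := by
    intro p q h
    haveI := ha (min_le_right p a) le_rfl
    haveI := ha (min_le_right q a) le_rfl
    rw [← cancel_mono (tr X.obj (min_le_right p a))]
    simp only [e, Category.assoc, IsIso.inv_hom_id, Category.comp_id]
    rw [← tr_trans X.obj (show min p a ≤ min q a by omega) (min_le_right q a), IsIso.inv_hom_id_assoc,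
      tr_trans, tr_trans]
  have hemono : ∀ p, Mono (e p) := fun p => by
    haveI := hmono (min_le_left p a)
    exact mono_comp _ _
  let N : ℕ := (b - a).toNat
  let J : Fin N → A := fun i => Injective.under (cokernel (e (a + (i : ℤ) + 1)))
  let c : ∀ i, W ⟶ J i := fun i => cokernel.π (e (a + (i : ℤ) + 1)) ≫ Injective.ι _
  let I : FilD.FilF A := ⟨coind a J, isFinFil_coind a J⟩
  let uT : X.obj ⟶ coind a J :=
    { app := fun p => biproduct.lift fun i : Idx a N p.unop => e p.unop ≫ c i.1
      naturality := fun p q g => by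
        have hle : q.unop ≤ p.unop := leOfHom g.unop
        refine biproduct.hom_ext _ _ fun i => ?_
        have hl : tr X.obj hle ≫ e q.unop ≫ c i.1 = e p.unop ≫ c i.1 := by
          rw [← Category.assoc (tr X.obj hle), he hle]
        suffices main : tr X.obj hle ≫ (biproduct.lift (fun i : Idx a N q.unop => e q.unop ≫ c i.1) ≫
            biproduct.π (fun i : Idx a N q.unop => J i.1) i) =
            biproduct.lift (fun i : Idx a N p.unop => e p.unop ≫ c i.1) ≫
              (coindMap (a := a) J hle ≫ biproduct.π (fun i : Idx a N q.unop => J i.1) i) from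
          (Category.assoc _ _ _).trans (main.trans (Category.assoc _ _ _).symm)
        rw [biproduct.lift_π, hl]
        by_cases hi : p.unop ≤ a + (i.1.val : ℤ)
        · have key : coindMap (a := a) J hle ≫ biproduct.π _ i =
              biproduct.π (fun i : Idx a N p.unop => J i.1) ⟨i.1, hi⟩ := by
            refine biproduct.hom_ext' _ _ fun k => ?_
            simp only [coindMap, biproduct.ι_desc_assoc, biproduct.ι_π]
            by_cases hk : k.1 = i.1
            · obtain ⟨k, hk'⟩ := k
              subst hk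
              simp
            · rw [dif_neg (fun hh => hk (congrArg Subtype.val hh)), dif_neg (fun hh => hk (congrArg Subtype.val hh))]
          rw [key, biproduct.lift_π]
        · have key : coindMap (a := a) J hle ≫ biproduct.π _ i = 0 := by
            refine biproduct.hom_ext' _ _ fun k => ?_
            simp only [coindMap, biproduct.ι_desc_assoc, biproduct.ι_π, comp_zero]
            refine dif_neg fun hh => hi ?_
            have := congrArg Subtype.val hh
            rw [← this]; exact k.2
          rw [key, comp_zero, ← he (show a + (i.1.val : ℤ) + 1 ≤ p.unop by omega), Category.assoc]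
          simp [c] }
  let u : X ⟶ I := ObjectProperty.homMk uT
  have hlift : ∀ (p q : ℤ) (hpq : p ≤ q) ⦃T : A⦄ (x : T ⟶ X.obj.obj (op p)),
      (∀ i : Fin N, p ≤ a + (i : ℤ) → a + (i : ℤ) < q → x ≫ e p ≫ c i = 0) →
      ∃ (T' : A) (π : T' ⟶ T) (_ : Epi π) (z : T' ⟶ X.obj.obj (op q)), π ≫ x = z ≫ tr X.obj hpq := by
    intro p q hpq
    induction q, hpq using Int.le_induction with
    | base => intro T x _; exact ⟨T, 𝟙 _, inferInstance, x, by rw [tr_refl]; simp⟩
    | succ q hpq ih =>
        intro T x hx
        obtain ⟨T₁, π₁, hπ₁, z, hz⟩ := ih x fun i h1 h2 => hx i h1 (by omega)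
        by_cases hqb : b ≤ q
        · refine ⟨T₁, π₁, hπ₁, 0, ?_⟩
          rw [hz, (hb q hqb).eq_of_tgt z 0]
          simp
        by_cases hqa : q + 1 ≤ a
        · haveI := ha (Int.le_add_one le_rfl : q ≤ q + 1) hqa
          refine ⟨T₁, π₁, hπ₁, z ≫ inv (tr X.obj (Int.le_add_one le_rfl : q ≤ q + 1)), ?_⟩
          rw [hz, Category.assoc, ← tr_trans X.obj hpq (Int.le_add_one le_rfl), IsIso.inv_hom_id_assoc]
        obtain ⟨i, hi⟩ : ∃ i : Fin N, a + (i : ℤ) = q :=
          ⟨⟨(q - a).toNat, by omega⟩, by dsimp only; omega⟩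
        have h0 : (z ≫ e q) ≫ cokernel.π (e (a + (i : ℤ) + 1)) = 0 := by
          rw [← cancel_mono (Injective.ι _), zero_comp]
          have := π₁ ≫= hx i (by omega) (by omega)
          rw [reassoc_of% hz, comp_zero, ← Category.assoc (tr X.obj hpq), he hpq] at this
          simpa [c] using this
        obtain ⟨T₂, π₂, hπ₂, w, hw⟩ :=
          (CokernelCofork.IsColimit.comp_π_eq_zero_iff_up_to_refinements
            (cokernelIsCokernel (e (a + (i : ℤ) + 1))) _).mp h0
        refine ⟨T₂, π₂ ≫ π₁, epi_comp _ _, w ≫ eqToHom (by rw [hi]), ?_⟩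
        rw [Category.assoc, hz, ← tr_trans X.obj hpq (Int.le_add_one le_rfl), ← Category.assoc π₂,
          ← Category.assoc]
        congr 1
        haveI := hemono q
        rw [← cancel_mono (e q)]
        simp only [Category.assoc]
        rw [hw, he]
        subst hi
        simp
  have hm : ∀ q, Mono (u.hom.app (op q)) := by
    intro q
    rw [Preadditive.mono_iff_cancel_zero]
    intro T x hx
    obtain ⟨T', π, hπ, z, hz⟩ := hlift q (max q b) (le_max_left q b) x fun i h1 _ => by
      have hx' : x ≫ biproduct.lift (fun i : Idx a N q => e q ≫ c i.1) = 0 := hx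
      have := hx' =≫ biproduct.π (fun i : Idx a N q => J i.1) ⟨i, h1⟩
      rwa [Category.assoc, biproduct.lift_π, zero_comp] at this
    rw [← cancel_epi π, comp_zero, hz, (hb _ (le_max_right q b)).eq_of_tgt z 0, zero_comp]
  refine ⟨I, u, isFilteredInjective_coind a J, hm, ?_⟩
  intro p q hpq T y x hyx
  obtain ⟨T', π, hπ, x', hx'⟩ := hlift p q hpq x fun i h1 h2 => by
    let y' : T ⟶ ⨁ fun i : Idx a N q => J i.1 := y
    have hyx' : y' ≫ coindMap (a := a) J hpq = x ≫ biproduct.lift (fun i : Idx a N p => e p ≫ c i.1) := hyx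
    have := hyx' =≫ biproduct.π (fun i : Idx a N p => J i.1) ⟨i, h1⟩
    have key : coindMap (a := a) J hpq ≫ biproduct.π (fun i : Idx a N p => J i.1) ⟨i, h1⟩ = 0 := by
      refine biproduct.hom_ext' _ _ fun k => ?_
      simp only [coindMap, biproduct.ι_desc_assoc, biproduct.ι_π, comp_zero]
      refine dif_neg fun hh => ?_
      have h3 := congrArg Subtype.val hh
      have h4 := k.2
      dsimp only at h3
      subst h3
      omega
    rw [Category.assoc, Category.assoc, key, comp_zero, biproduct.lift_π] at this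
    exact this.symm
  refine ⟨T', π, hπ, x', ?_⟩
  haveI : Mono (tr I.obj hpq) := monoFil I _
  rw [← cancel_mono (tr I.obj hpq), Category.assoc, Category.assoc, hyx, ← app_tr,
    ← Category.assoc x', ← hx', Category.assoc]

end Groth.Misc1.Fil
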