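import Groth.Agent.Misc1.Fil.Basic
import Mathlib.Algebra.Homology.ShortComplex.ShortExact
import Mathlib.CategoryTheory.Preadditive.Injective.Basic
import Mathlib.CategoryTheory.Limits.Shapes.FiniteProducts

/-!
# Filtered injective objects: extension of morphisms along strict maps
-/

set_option autoImplicit false

universe v u

open CategoryTheory CategoryTheory.Limits Opposite

namespace Groth.Misc1.Fil

variable {A : Type u} [Category.{v} A] [Abelian A]

lemma level_shortExact (X : ℤᵒᵖ ⥤ A) (hX : MonoFil X) (p : ℤ) :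
    (ShortComplex.mk (tr X (Int.le_add_one le_rfl : p ≤ p + 1)) (grπ X p) (tr_grπ X p _)).ShortExact :=
  { exact := ShortComplex.exact_of_g_is_cokernel _ (cokernelIsCokernel _)
    mono_f := hX _
    epi_g := inferInstanceAs (Epi (grπ X p)) }

lemma injective_level {I : FilD.FilF A} (hI : FilD.IsFilteredInjective I) (p : ℤ) :
    Injective (I.obj.obj (op p)) := by
  obtain ⟨b, hb⟩ := exists_bound I
  suffices ∀ (n : ℕ) (p : ℤ), b - n ≤ p → Injective (I.obj.obj (op p)) from
    this (b - p).toNat p (by omega)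
  intro n
  induction n with
  | zero =>
      intro p hp
      exact ⟨fun g f _ => ⟨0, (hb p (by omega)).eq_of_tgt _ _⟩⟩
  | succ n ih =>
      intro p hp
      haveI h1 : Injective (I.obj.obj (op (p + 1))) := ih (p + 1) (by omega)
      haveI h2 : Injective ((FilD.gr A p).obj I.obj) := hI p
      have hS := level_shortExact I.obj (monoFil I) p
      have sp := hS.splittingOfInjective
      exact Injective.of_iso sp.isoBinaryBiproduct.symm inferInstance

/-- Extension in an abelian category of a map killing a kernel, towards an injective object. -/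
lemma exists_ext_of_ker {P Q J : A} [Injective J] (φ : P ⟶ Q) (ψ : P ⟶ J)
    (h : kernel.ι φ ≫ ψ = 0) : ∃ g : Q ⟶ J, φ ≫ g = ψ := by
  refine ⟨Injective.factorThru (cokernel.desc (kernel.ι φ) ψ h) (Abelian.factorThruCoimage φ), ?_⟩
  conv_lhs => arg 1; rw [← Abelian.coimage.fac φ]
  rw [Category.assoc, Injective.comp_factorThru, cokernel.π_desc]

/-- One step of the extension along a strict morphism. -/
lemma exists_ext_step {X Y : ℤᵒᵖ ⥤ A} {I : ℤᵒᵖ ⥤ A} (u : X ⟶ Y) (hu : Str u) (f : X ⟶ I)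
    {p q : ℤ} (h : q ≤ p) [Injective (I.obj (op q))]
    (hf : ∀ ⦃T : A⦄ (x : T ⟶ X.obj (op q)), x ≫ u.app (op q) = 0 → x ≫ f.app (op q) = 0)
    (g : Y.obj (op p) ⟶ I.obj (op p)) (hg : u.app (op p) ≫ g = f.app (op p)) :
    ∃ g' : Y.obj (op q) ⟶ I.obj (op q), u.app (op q) ≫ g' = f.app (op q) ∧
      tr Y h ≫ g' = g ≫ tr I h := by
  let φ : X.obj (op q) ⊞ Y.obj (op p) ⟶ Y.obj (op q) := biprod.desc (u.app (op q)) (tr Y h)
  let ψ : X.obj (op q) ⊞ Y.obj (op p) ⟶ I.obj (op q) := biprod.desc (f.app (op q)) (g ≫ tr I h)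
  have key : kernel.ι φ ≫ ψ = 0 := by
    set k := kernel.ι φ with hkdef
    set x := k ≫ biprod.fst with hxdef
    set y := k ≫ biprod.snd with hydef
    have hk : k = x ≫ biprod.inl + y ≫ biprod.inr := by
      ext <;> simp [hxdef, hydef]
    have h0 : x ≫ u.app (op q) + y ≫ tr Y h = 0 := by
      have := kernel.condition φ
      rw [← hkdef, hk] at this
      simpa [φ] using this
    obtain ⟨T', π, hπ, x', hx'⟩ := hu h y (-x)
      (by rw [Preadditive.neg_comp, eq_neg_iff_add_eq_zero, add_comm]; exact h0)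
    rw [← cancel_epi π, comp_zero, hk]
    simp only [ψ, Preadditive.add_comp, Category.assoc, biprod.inl_desc, biprod.inr_desc,
      Preadditive.comp_add, reassoc_of% hx', reassoc_of% hg, ← app_tr]
    rw [← Category.assoc π, ← Category.assoc x', ← Preadditive.add_comp]
    refine hf _ ?_
    simp only [Preadditive.add_comp, Category.assoc, app_tr, ← reassoc_of% hx']
    simp only [← Preadditive.comp_add]
    rw [h0, comp_zero]
  obtain ⟨g', hg'⟩ := exists_ext_of_ker φ ψ key
  refine ⟨g', ?_, ?_⟩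
  · simpa [φ, ψ] using biprod.inl ≫= hg'
  · simpa [φ, ψ] using biprod.inr ≫= hg'

/-- A morphism to a filtered injective object which kills the kernels of a strict morphism on all
levels extends along it. -/
theorem exists_ext {X Y I : FilD.FilF A} (u : X ⟶ Y) (hu : Str u.hom)
    (hI : FilD.IsFilteredInjective I) (f : X ⟶ I)
    (hf : ∀ (q : ℤ) ⦃T : A⦄ (x : T ⟶ X.obj.obj (op q)), x ≫ u.hom.app (op q) = 0 →
      x ≫ f.hom.app (op q) = 0) :
    ∃ g : Y ⟶ I, u ≫ g = f := by
  haveI := fun p => injective_level hI p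
  obtain ⟨b, hb⟩ := exists_bound I
  obtain ⟨a, ha⟩ := exists_iso_bound Y
  let Part : ℤ → Prop := fun p => ∃ g : ∀ q, p ≤ q → (Y.obj.obj (op q) ⟶ I.obj.obj (op q)),
    (∀ q hq, u.hom.app (op q) ≫ g q hq = f.hom.app (op q)) ∧
    ∀ q r (h : q ≤ r) (hq : p ≤ q),
      tr Y.obj h ≫ g q hq = g r (hq.trans h) ≫ tr I.obj h
  have hstep : ∀ n : ℕ, Part (b - n) := by
    intro n
    induction n with
    | zero =>
        refine ⟨fun q _ => 0, fun q hq => ?_, fun q r h hq => by simp⟩
        exact (hb q (by omega)).eq_of_tgt _ _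
    | succ n ih =>
        obtain ⟨g, hg₁, hg₂⟩ := ih
        obtain ⟨g', hg'₁, hg'₂⟩ := exists_ext_step u.hom hu f.hom
          (show b - ((n + 1 : ℕ) : ℤ) ≤ b - n by omega) (hf _) (g _ le_rfl) (hg₁ _ le_rfl)
        have hex : ∀ q, b - ((n + 1 : ℕ) : ℤ) ≤ q → ¬ (b - (n : ℤ) ≤ q) →
            ∃ x : Y.obj.obj (op q) ⟶ I.obj.obj (op q), u.hom.app (op q) ≫ x = f.hom.app (op q) ∧
              ∀ h : q ≤ b - n, tr Y.obj h ≫ x = g _ le_rfl ≫ tr I.obj h := by
          intro q hq hq'
          obtain rfl : q = b - ((n + 1 : ℕ) : ℤ) := by omega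
          exact ⟨g', hg'₁, fun _ => hg'₂⟩
        choose e he₁ he₂ using hex
        refine ⟨fun q hq => if h : b - (n : ℤ) ≤ q then g q h else e q hq h, fun q hq => ?_, ?_⟩
        · dsimp only; split
          · exact hg₁ _ _
          · exact he₁ _ _ _
        · intro q r h hq
          dsimp only
          by_cases h1 : b - (n : ℤ) ≤ q
          · rw [dif_pos h1, dif_pos (h1.trans h)]
            exact hg₂ _ _ h h1
          · rw [dif_neg h1]
            by_cases h2 : b - (n : ℤ) ≤ r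
            · rw [dif_pos h2]
              have := he₂ q hq h1 (by omega)
              rw [← tr_trans Y.obj (show q ≤ b - n by omega) h2, Category.assoc, this,
                ← Category.assoc, hg₂ _ _ h2 le_rfl, Category.assoc, tr_trans]
            · rw [dif_neg h2]
              obtain rfl : q = r := by omega
              simp [tr_refl]
  obtain ⟨m, hma, hmb⟩ : ∃ m : ℤ, m ≤ a ∧ m ≤ b := ⟨min a b, min_le_left a b, min_le_right a b⟩
  obtain ⟨g, hg₁, hg₂⟩ : Part m := by
    have := hstep (b - m).toNat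
    rwa [show b - ((b - m).toNat : ℤ) = m by omega] at this
  have hlow : ∀ q, ¬ m ≤ q → ∃ x : Y.obj.obj (op q) ⟶ I.obj.obj (op q),
      u.hom.app (op q) ≫ x = f.hom.app (op q) ∧
      ∀ h : q ≤ m, tr Y.obj h ≫ x = g m le_rfl ≫ tr I.obj h := by
    intro q hq
    obtain ⟨x, hx₁, hx₂⟩ := exists_ext_step u.hom hu f.hom (show q ≤ m by omega) (hf _)
      (g m le_rfl) (hg₁ _ le_rfl)
    exact ⟨x, hx₁, fun _ => hx₂⟩
  choose e he₁ he₂ using hlow
  let G : ∀ q, Y.obj.obj (op q) ⟶ I.obj.obj (op q) := fun q =>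
    if h : m ≤ q then g q h else e q h
  have hG : ∀ q r (h : q ≤ r), tr Y.obj h ≫ G q = G r ≫ tr I.obj h := by
    intro q r h
    dsimp only [G]
    by_cases h1 : m ≤ q
    · rw [dif_pos h1, dif_pos (h1.trans h)]
      exact hg₂ _ _ h h1
    · rw [dif_neg h1]
      by_cases h2 : m ≤ r
      · rw [dif_pos h2, ← tr_trans Y.obj (show q ≤ m by omega) h2, Category.assoc,
          he₂ q h1, ← Category.assoc, hg₂ _ _ h2 le_rfl, Category.assoc, tr_trans]
      · rw [dif_neg h2]
        haveI : IsIso (tr Y.obj (show r ≤ m by omega)) := ha _ (by omega)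
        rw [← cancel_epi (tr Y.obj (show r ≤ m by omega)), ← Category.assoc, tr_trans,
          he₂ q h1, ← Category.assoc, he₂ r h2, Category.assoc, tr_trans]
  refine ⟨ObjectProperty.homMk
    { app := fun q => G q.unop
      naturality := fun q r h => by
        have := hG r.unop q.unop (leOfHom h.unop)
        rwa [show tr Y.obj (leOfHom h.unop) = Y.obj.map h from rfl,
          show tr I.obj (leOfHom h.unop) = I.obj.map h from rfl] at this }, ?_⟩
  ext q
  change u.hom.app (op q.unop) ≫ G q.unop = _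
  dsimp only [G]
  split
  · exact hg₁ _ _
  · exact he₁ _ _

lemma gr_mono_levels {X Y : FilD.FilF A} (u : X ⟶ Y)
    (h : ∀ p, Mono ((FilD.gr A p).map u.hom)) :
    (∀ q, Mono (u.hom.app (op q))) ∧ Str u.hom := by
  have hgr : ∀ p, ((ShortComplex.mk (0 : X.obj ⟶ X.obj) u.hom zero_comp).map (FilD.gr A p)).Exact := by
    intro p
    rw [ShortComplex.exact_iff_mono _ ((FilD.gr A p).map_zero _ _)]
    exact h p
  refine ⟨fun q => ?_, str_right _ _ _ (monoFil Y) hgr⟩
  rw [Preadditive.mono_iff_cancel_zero]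
  intro T x hx
  obtain ⟨T', π, hπ, z, hz⟩ := levels_exact _ _ _ (monoFil Y) (exists_bound X) hgr q x hx
  rw [← cancel_epi π, comp_zero, hz]
  simp

lemma gr_mono_of_str {X Y : ℤᵒᵖ ⥤ A} (u : X ⟶ Y) (hm : ∀ q, Mono (u.app (op q))) (hu : Str u)
    (p : ℤ) : Mono ((FilD.gr A p).map u) := by
  rw [Preadditive.mono_iff_cancel_zero]
  intro T xb hxb
  obtain ⟨T₁, π₁, hπ₁, x, hx⟩ := surjective_up_to_refinements_of_epi (grπ X p) xb
  have h0 : (x ≫ u.app (op p)) ≫ grπ Y p = 0 := by
    rw [Category.assoc, ← grπ_naturality, ← Category.assoc, ← hx, Category.assoc, hxb, comp_zero]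
  obtain ⟨T₂, π₂, hπ₂, y, hy⟩ := grπ_eq_zero _ h0
  obtain ⟨T₃, π₃, hπ₃, x', hx'⟩ := hu (Int.le_add_one le_rfl) y (π₂ ≫ x)
    (by rw [← hy]; simp only [Category.assoc])
  haveI := hm p
  have h4 : π₃ ≫ π₂ ≫ x = x' ≫ tr X (Int.le_add_one le_rfl) := by
    rw [← cancel_mono (u.app (op p))]
    simp only [Category.assoc, hy, app_tr, reassoc_of% hx']
  have h5 := congrArg (· ≫ grπ X p) h4
  simp only [Category.assoc, tr_grπ, comp_zero, ← hx] at h5
  rwa [← cancel_epi (π₃ ≫ π₂ ≫ π₁), comp_zero, Category.assoc, Category.assoc]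

end Groth.Misc1.Fil
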