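import Mathlib.Algebra.Order.Ring.Int
import Mathlib.Tactic.Linarith

/-!
# Recursion upwards along the integers from a starting index
-/

set_option autoImplicit false

universe w

namespace Groth.Misc1.Fil

variable {S : ℤ → Sort w} (a : ℤ)

/-- auxiliary recursion -/
noncomputable def upFrom (base : ∀ n, n ≤ a → S n) (nx : ∀ n, a ≤ n → S n → S (n + 1)) :
    ∀ (k : ℕ) (n : ℤ), n = a + k → S n
  | 0, n, h => base n (by omega)
  | k + 1, n, h => (show n - 1 + 1 = n by omega) ▸
      nx (n - 1) (by omega) (upFrom base nx k (n - 1) (by omega))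

theorem exists_seq_int (R : ∀ n, S n → S (n + 1) → Prop)
    (base : ∀ n, n ≤ a → S n)
    (hbase : ∀ n (h : n + 1 ≤ a), R n (base n (by omega)) (base (n + 1) h))
    (step : ∀ n, a ≤ n → ∀ s : S n, ∃ t, R n s t) :
    ∃ s : ∀ n, S n, (∀ n, R n (s n) (s (n + 1))) ∧ ∀ n (h : n ≤ a), s n = base n h := by
  choose nx hnx using step
  let u := upFrom a base nx
  have hu : ∀ (k k' : ℕ) (n : ℤ) (h : n = a + k) (h' : n = a + k'), u k n h = u k' n h' := by
    intro k k' n h h'
    obtain rfl : k = k' := by omega
    rfl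
  have hR : ∀ (k : ℕ) (m n : ℤ) (e : m = n) (e' : m + 1 = n + 1) (hm : m = a + k) (hn : n = a + k),
      R n (u k n hn) (e' ▸ nx m (by omega) (u k m hm)) := by
    intro k m n e e' hm hn
    subst e
    exact hnx m _ _
  let s : ∀ n, S n := fun n =>
    if h : a ≤ n then u (n - a).toNat n (by omega) else base n (by omega)
  have hs : ∀ n (h : n ≤ a), s n = base n h := by
    intro n h
    dsimp only [s]
    split
    · rw [hu _ 0 n _ (by omega)]
      simp only [u, upFrom]
    · rfl
  refine ⟨s, fun n => ?_, hs⟩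
  by_cases h : a ≤ n
  · have e1 : s n = u (n - a).toNat n (by omega) := dif_pos h
    have e2 : s (n + 1) = u ((n - a).toNat + 1) (n + 1) (by omega) :=
      (dif_pos (show a ≤ n + 1 by omega)).trans (hu _ _ _ _ _)
    rw [e1, e2]
    simp only [u, upFrom]
    exact hR _ (n + 1 - 1) n (by omega) (by omega) (by omega) _
  · rw [hs n (by omega), hs (n + 1) (by omega)]
    exact hbase n (by omega)

end Groth.Misc1.Fil
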