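import Groth.Agent.Misc1.Fil.Cone
import Groth.Agent.Misc1.Fil.Extend
import Groth.Agent.Misc1.Fil.Rec
import Mathlib.Algebra.Homology.HomotopyCategory.Acyclic
import Mathlib.Algebra.Homology.Embedding.CochainComplex
import Mathlib.Algebra.Homology.HomotopyCategory.Shift

/-!
# Maps from filtered acyclic complexes into bounded below filtered injective complexes
-/

set_option autoImplicit false
set_option linter.style.haveILetI false

universe v u

open CategoryTheory CategoryTheory.Limits Opposite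

namespace Groth.Misc1.Fil

variable {A : Type u} [Category.{v} A] [Abelian A]

lemma gr_exact_of_exactAt (K : CochainComplex (FilD.FilF A) ℤ) (p l : ℤ)
    (h : ((FilD.grCx p).obj K).ExactAt (l + 1)) :
    ((ShortComplex.mk (K.d l (l + 1)).hom (K.d (l + 1) (l + 1 + 1)).hom
      (congrArg (fun m => m.hom) (K.d_comp_d l (l + 1) (l + 1 + 1)))).map (FilD.gr A p)).Exact :=
  (HomologicalComplex.exactAt_iff' _ l (l + 1) (l + 1 + 1) (by simp) (by simp)).mp h

theorem nullhomotopic_of_acyclic (K I : CochainComplex (FilD.FilF A) ℤ)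
    (hK : FilD.IsFilteredAcyclic K) (a : ℤ) [I.IsStrictlyGE a]
    (hI : ∀ n, FilD.IsFilteredInjective (I.X n)) (φ : K ⟶ I) : Nonempty (Homotopy φ 0) := by
  let S : ℤ → Type v := fun n =>
    {g : K.X (n + 1) ⟶ I.X n // K.d n (n + 1) ≫ (φ.f (n + 1) - g ≫ I.d n (n + 1)) = 0}
  let R : ∀ n, S n → S (n + 1) → Prop := fun n s t =>
    K.d (n + 1) (n + 1 + 1) ≫ t.1 + s.1 ≫ I.d n (n + 1) = φ.f (n + 1)
  have hz : ∀ n, n + 1 ≤ a → IsZero (I.X n) := fun n h => I.isZero_of_isStrictlyGE a n (by omega)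
  let base : ∀ n, n ≤ a - 1 → S n := fun n h => ⟨0, by
    rw [zero_comp, sub_zero, ← φ.comm, (hz n (by omega)).eq_of_tgt (φ.f n) 0, zero_comp]⟩
  obtain ⟨s, hs, hs0⟩ := exists_seq_int (a - 1) R base
    (fun n h => (hz (n + 1) (by omega)).eq_of_tgt _ _)
    (fun n _ s => by
      obtain ⟨g, hg⟩ := s
      let ψ : K.X (n + 1) ⟶ I.X (n + 1) := φ.f (n + 1) - g ≫ I.d n (n + 1)
      have w : (K.d n (n + 1)).hom ≫ (K.d (n + 1) (n + 1 + 1)).hom = 0 :=
        congrArg (fun m => m.hom) (K.d_comp_d n (n + 1) (n + 1 + 1))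
      have hex := fun p => gr_exact_of_exactAt K p n (hK p (n + 1))
      have hu : Str (K.d (n + 1) (n + 1 + 1)).hom :=
        str_right _ _ w (monoFil (K.X (n + 1 + 1))) hex
      obtain ⟨g', hg'⟩ := exists_ext (K.d (n + 1) (n + 1 + 1)) hu (hI (n + 1)) ψ (fun q T x hx => by
        obtain ⟨T', π, hπ, y, hy⟩ := levels_exact _ _ w (monoFil (K.X (n + 1 + 1)))
          (exists_bound (K.X (n + 1))) hex q x hx
        have h0 : (K.d n (n + 1)).hom.app (op q) ≫ ψ.hom.app (op q) = 0 :=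
          congrArg (fun m : K.X n ⟶ I.X (n + 1) => m.hom.app (op q)) hg
        rw [← cancel_epi π, ← Category.assoc, hy, Category.assoc, h0, comp_zero, comp_zero])
      refine ⟨⟨g', ?_⟩, ?_⟩
      · rw [Preadditive.comp_sub, ← Category.assoc, hg', ← φ.comm]
        simp only [ψ, Preadditive.sub_comp, Category.assoc, I.d_comp_d, comp_zero, sub_zero, sub_self]
      · change K.d (n + 1) (n + 1 + 1) ≫ g' + g ≫ I.d n (n + 1) = φ.f (n + 1)
        rw [hg']
        exact sub_add_cancel _ _)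
  let hom : ∀ i j, K.X i ⟶ I.X j := fun i j =>
    if h : j + 1 = i then eqToHom (by rw [h]) ≫ (s j).1 else 0
  have hhom : ∀ j, hom (j + 1) j = (s j).1 := fun j => by
    simp [hom]
  refine ⟨{ hom := hom, zero := fun i j h => dif_neg h, comm := fun i => ?_ }⟩
  obtain ⟨m, rfl⟩ : ∃ m, m + 1 = i := ⟨i - 1, by omega⟩
  rw [dNext_eq hom (show (ComplexShape.up ℤ).Rel (m + 1) (m + 1 + 1) from rfl),
    prevD_eq hom (show (ComplexShape.up ℤ).Rel m (m + 1) from rfl), hhom, hhom]
  simpa using (hs m).symm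

lemma quotient_hom_eq_zero (K I : CochainComplex (FilD.FilF A) ℤ)
    (hK : FilD.IsFilteredAcyclic K) (a : ℤ) [I.IsStrictlyGE a]
    (hI : ∀ n, FilD.IsFilteredInjective (I.X n))
    (f : (HomotopyCategory.quotient (FilD.FilF A) (ComplexShape.up ℤ)).obj K ⟶
      (HomotopyCategory.quotient (FilD.FilF A) (ComplexShape.up ℤ)).obj I) : f = 0 := by
  obtain ⟨φ, rfl⟩ := (HomotopyCategory.quotient _ _).map_surjective f
  rw [HomotopyCategory.quotient_map_eq_zero_iff]
  exact nullhomotopic_of_acyclic K I hK a hI φ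

lemma isFilteredAcyclic_mappingCone {K L : CochainComplex (FilD.FilF A) ℤ} (α : K ⟶ L)
    (hα : FilD.IsFilteredQuasiIso α) : FilD.IsFilteredAcyclic (CochainComplex.mappingCone α) := by
  intro p
  let H := FilD.grF A p
  let β := (H.mapHomologicalComplex (ComplexShape.up ℤ)).map α
  have hq : HomotopyCategory.quasiIso A (ComplexShape.up ℤ)
      ((HomotopyCategory.quotient _ _).map β) :=
    (HomotopyCategory.quotient_map_mem_quasiIso_iff β).mpr (hα p)
  rw [HomotopyCategory.quasiIso_eq_trW_subcategoryAcyclic] at hq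
  have h2 := ((HomotopyCategory.subcategoryAcyclic A).trW_iff_of_distinguished _
    (HomotopyCategory.mappingCone_triangleh_distinguished β)).mp hq
  have h3 := (HomotopyCategory.quotient_obj_mem_subcategoryAcyclic_iff_exactAt
    (CochainComplex.mappingCone β)).mp h2
  intro n
  exact (h3 n).of_iso (CochainComplex.mappingCone.mapHomologicalComplexIso α H).symm

theorem precomp_bijective (I : CochainComplex (FilD.FilF A) ℤ)
    (a : ℤ) [I.IsStrictlyGE a] (hI : ∀ n, FilD.IsFilteredInjective (I.X n))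
    {K L : CochainComplex (FilD.FilF A) ℤ} (α : K ⟶ L) (hα : FilD.IsFilteredQuasiIso α) :
    Function.Bijective (fun β : (HomotopyCategory.quotient (FilD.FilF A) (ComplexShape.up ℤ)).obj L ⟶
        (HomotopyCategory.quotient (FilD.FilF A) (ComplexShape.up ℤ)).obj I =>
      (HomotopyCategory.quotient (FilD.FilF A) (ComplexShape.up ℤ)).map α ≫ β) := by
  have hC := isFilteredAcyclic_mappingCone α hα
  have hT := HomotopyCategory.mappingCone_triangleh_distinguished α
  constructor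
  · intro β₁ β₂ h
    obtain ⟨g, hg⟩ := Pretriangulated.Triangle.yoneda_exact₂ _ hT (β₁ - β₂) (by
      change (HomotopyCategory.quotient _ _).map α ≫ (β₁ - β₂) = 0
      rw [Preadditive.comp_sub]
      exact sub_eq_zero.mpr h)
    rw [← sub_eq_zero, hg, quotient_hom_eq_zero _ I hC a hI g]
    exact comp_zero
  · intro γ
    let Q := HomotopyCategory.quotient (FilD.FilF A) (ComplexShape.up ℤ)
    haveI : (I⟦(1 : ℤ)⟧).IsStrictlyGE (a - 1) := I.isStrictlyGE_shift a 1 (a - 1) (by omega)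
    have hI1 : ∀ n, FilD.IsFilteredInjective ((I⟦(1 : ℤ)⟧).X n) := fun n => hI _
    let e : Q.obj (I⟦(1 : ℤ)⟧) ≅ (Q.obj I)⟦(1 : ℤ)⟧ := (Q.commShiftIso (1 : ℤ)).app I
    let T := CochainComplex.mappingCone.triangleh α
    have h0 : T.mor₃ ≫ γ⟦(1 : ℤ)⟧' = 0 := by
      rw [← cancel_mono e.inv, zero_comp]
      exact quotient_hom_eq_zero _ _ hC (a - 1) hI1 _
    obtain ⟨g, hg⟩ := Pretriangulated.Triangle.yoneda_exact₃ _
      (Pretriangulated.rot_of_distTriang _ hT) (γ⟦(1 : ℤ)⟧') h0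
    obtain ⟨g', rfl⟩ := (shiftFunctor (HomotopyCategory (FilD.FilF A) (ComplexShape.up ℤ)) (1 : ℤ)).map_surjective g
    let g'' : Q.obj L ⟶ Q.obj I := -g'
    refine ⟨g'', ?_⟩
    apply (shiftFunctor (HomotopyCategory (FilD.FilF A) (ComplexShape.up ℤ)) (1 : ℤ)).map_injective
    have h1 : ((Q.map α)⟦(1 : ℤ)⟧') ≫ (g''⟦(1 : ℤ)⟧') = γ⟦(1 : ℤ)⟧' := by
      let g₀ : Q.obj L ⟶ Q.obj I := g'
      have hneg : g''⟦(1 : ℤ)⟧' = -(g₀⟦(1 : ℤ)⟧') :=
        (shiftFunctor (HomotopyCategory (FilD.FilF A) (ComplexShape.up ℤ)) (1 : ℤ)).map_neg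
      rw [hneg, Preadditive.comp_neg, ← Preadditive.neg_comp]
      exact hg.symm
    exact ((shiftFunctor _ (1 : ℤ)).map_comp _ _).trans h1

end Groth.Misc1.Fil
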