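import Groth.Agent.Misc1.Fil.Resolution
import Groth.Agent.Misc1.Fil.Homotopy

/-!
# The horseshoe lemma for filtered objects
-/

set_option autoImplicit false
set_option linter.style.haveILetI false

universe v u

open CategoryTheory CategoryTheory.Limits Opposite

namespace Groth.Misc1.Fil

variable {A : Type u} [Category.{v} A] [Abelian A]

lemma exactAt_of_quasiIso_single {X : FilD.FilF A} {J : CochainComplex (FilD.FilF A) ℤ}
    (c : (HomologicalComplex.single (FilD.FilF A) (ComplexShape.up ℤ) 0).obj X ⟶ J) (hc : FilD.IsFilteredQuasiIso c)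
    (p n : ℤ) (hn : n ≠ 0) : ((FilD.grCx p).obj J).ExactAt n := by
  haveI := hc p
  have hK : ((FilD.grCx p).obj ((HomologicalComplex.single (FilD.FilF A) (ComplexShape.up ℤ) 0).obj X)).ExactAt n := by
    apply ShortComplex.exact_of_isZero_X₂
    exact Functor.map_isZero (FilD.grF A p) (HomologicalComplex.isZero_single_obj_X (ComplexShape.up ℤ) 0 X n hn)
  exact (quasiIsoAt_iff_exactAt ((FilD.grCx p).map c) n hK).mp inferInstance

/-- the component in degree zero of a map out of a single complex -/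
noncomputable def comp₀ {X : FilD.FilF A} {J : CochainComplex (FilD.FilF A) ℤ}
    (c : (HomologicalComplex.single (FilD.FilF A) (ComplexShape.up ℤ) 0).obj X ⟶ J) : X ⟶ J.X 0 :=
  (HomologicalComplex.singleObjXSelf (ComplexShape.up ℤ) 0 X).inv ≫ c.f 0

lemma comp₀_d {X : FilD.FilF A} {J : CochainComplex (FilD.FilF A) ℤ}
    (c : (HomologicalComplex.single (FilD.FilF A) (ComplexShape.up ℤ) 0).obj X ⟶ J) : comp₀ c ≫ J.d 0 1 = 0 := by
  rw [comp₀, Category.assoc, c.comm 0 1]
  simp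

lemma comp₀_gr {X : FilD.FilF A} {J : CochainComplex (FilD.FilF A) ℤ} [J.IsStrictlyGE 0]
    (c : (HomologicalComplex.single (FilD.FilF A) (ComplexShape.up ℤ) 0).obj X ⟶ J) (hc : FilD.IsFilteredQuasiIso c)
    (p : ℤ) :
    Mono ((FilD.gr A p).map (comp₀ c).hom) ∧
      ((ShortComplex.mk (comp₀ c).hom (J.d 0 1).hom (congrArg (fun m => m.hom) (comp₀_d c))).map
        (FilD.gr A p)).Exact := by
  haveI := hc p
  have hq : QuasiIsoAt ((FilD.grCx p).map c) 0 := inferInstance
  rw [quasiIsoAt_iff' _ (-1) 0 1 (by simp) (by simp), ShortComplex.quasiIso_iff] at hq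
  let e : ((HomologicalComplex.single (FilD.FilF A) (ComplexShape.up ℤ) 0).obj X).X 0 ≅ X :=
    HomologicalComplex.singleObjXSelf (ComplexShape.up ℤ) 0 X
  have he : (FilD.grF A p).map (c.f 0) = (FilD.grF A p).map e.hom ≫ (FilD.grF A p).map (comp₀ c) := by
    rw [← Functor.map_comp, comp₀]
    simp [e]
  have hJz : IsZero ((FilD.grF A p).obj (J.X (-1))) :=
    isZero_gr (J.isZero_of_isStrictlyGE 0 (-1) (by omega)) p
  constructor
  · suffices Mono ((FilD.grF A p).map (comp₀ c)) from this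
    rw [Preadditive.mono_iff_cancel_zero]
    intro T x hx
    have hm : Mono (ShortComplex.homologyMap
      ((HomologicalComplex.shortComplexFunctor' A (ComplexShape.up ℤ) (-1) 0 1).map ((FilD.grCx p).map c))) :=
      @IsIso.mono_of_iso _ _ _ _ _ hq
    rw [ShortComplex.mono_homologyMap_iff_up_to_refinements] at hm
    let x' : T ⟶ (FilD.grF A p).obj (((HomologicalComplex.single (FilD.FilF A) (ComplexShape.up ℤ) 0).obj X).X 0) :=
      x ≫ (FilD.grF A p).map e.inv
    have h1 : x' ≫ (FilD.grF A p).map (((HomologicalComplex.single (FilD.FilF A) (ComplexShape.up ℤ) 0).obj X).d 0 1) = 0 := by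
      rw [show ((HomologicalComplex.single (FilD.FilF A) (ComplexShape.up ℤ) 0).obj X).d 0 1 = 0 from
        HomologicalComplex.single_obj_d _ _ _ _ _, Functor.map_zero, comp_zero]
    have h2 : x' ≫ (FilD.grF A p).map (c.f 0) = (0 : T ⟶ (FilD.grF A p).obj (J.X (-1))) ≫
        (FilD.grF A p).map (J.d (-1) 0) := by
      simp only [x', Category.assoc, ← Functor.map_comp, zero_comp]
      exact hx
    obtain ⟨T', π, hπ, z, hz⟩ := hm x' h1 (0 : T ⟶ (FilD.grF A p).obj (J.X (-1))) h2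
    have h3 : π ≫ x' = 0 := by
      refine hz.trans ?_
      exact (congrArg (z ≫ ·) ((congrArg (fun m => (FilD.grF A p).map m)
        (HomologicalComplex.single_obj_d _ _ _ _ _)).trans (Functor.map_zero _ _ _))).trans comp_zero
    haveI : Mono ((FilD.grF A p).map e.inv) := inferInstance
    rw [← cancel_epi π, ← cancel_mono ((FilD.grF A p).map e.inv), Category.assoc, h3, comp_zero,
      zero_comp]
  · rw [ShortComplex.exact_iff_exact_up_to_refinements]
    intro T (y : T ⟶ (FilD.grF A p).obj (J.X 0)) (hy : y ≫ (FilD.grF A p).map (J.d 0 1) = 0)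
    have hep : Epi (ShortComplex.homologyMap
      ((HomologicalComplex.shortComplexFunctor' A (ComplexShape.up ℤ) (-1) 0 1).map ((FilD.grCx p).map c))) :=
      @IsIso.epi_of_iso _ _ _ _ _ hq
    rw [ShortComplex.epi_homologyMap_iff_up_to_refinements] at hep
    obtain ⟨T', π, hπ, x, -, z, hz⟩ := hep y hy
    let x' : T' ⟶ (FilD.grF A p).obj (((HomologicalComplex.single (FilD.FilF A) (ComplexShape.up ℤ) 0).obj X).X 0) := x
    refine ⟨T', π, hπ, x' ≫ (FilD.grF A p).map e.hom, ?_⟩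
    have hz0 : (z : T' ⟶ (FilD.grF A p).obj (J.X (-1))) = 0 := hJz.eq_of_tgt _ _
    have hz' : π ≫ y = x' ≫ (FilD.grF A p).map (c.f 0) +
        (z : T' ⟶ (FilD.grF A p).obj (J.X (-1))) ≫ (FilD.grF A p).map (J.d (-1) 0) := hz
    replace hz' : π ≫ y = x' ≫ (FilD.grF A p).map (c.f 0) :=
      hz'.trans ((congrArg (_ + ·) ((congrArg (· ≫ _) hz0).trans zero_comp)).trans (add_zero _))
    rw [he, ← Category.assoc] at hz'
    exact hz'

theorem horseshoe (S : ShortComplex (FilD.FilF A))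
    (hS : ∀ p : ℤ, (S.map ((FilD.IsFinFil A).ι ⋙ (evaluation ℤᵒᵖ A).obj (op p))).ShortExact)
    (I : CochainComplex (FilD.FilF A) ℤ) [I.IsStrictlyGE 0] (hI : ∀ n, FilD.IsFilteredInjective (I.X n))
    (a : (HomologicalComplex.single (FilD.FilF A) (ComplexShape.up ℤ) 0).obj S.X₁ ⟶ I)
    (J : CochainComplex (FilD.FilF A) ℤ) [J.IsStrictlyGE 0]
    (c : (HomologicalComplex.single (FilD.FilF A) (ComplexShape.up ℤ) 0).obj S.X₃ ⟶ J) (hc : FilD.IsFilteredQuasiIso c) :
    ∃ (M : CochainComplex (FilD.FilF A) ℤ) (α : I ⟶ M) (β : M ⟶ J)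
      (b : (HomologicalComplex.single (FilD.FilF A) (ComplexShape.up ℤ) 0).obj S.X₂ ⟶ M),
      (∀ n, ∃ (r : M.X n ⟶ I.X n) (s : J.X n ⟶ M.X n), α.f n ≫ r = 𝟙 _ ∧ s ≫ β.f n = 𝟙 _ ∧
        α.f n ≫ β.f n = 0 ∧ r ≫ α.f n + β.f n ≫ s = 𝟙 _) ∧
      a ≫ α = (HomologicalComplex.single (FilD.FilF A) (ComplexShape.up ℤ) 0).map S.f ≫ b ∧
      b ≫ β = (HomologicalComplex.single (FilD.FilF A) (ComplexShape.up ℤ) 0).map S.g ≫ c := by
  classical
  have hf0 : ∀ q, Mono (S.f.hom.app (op q)) := fun q => (hS q).mono_f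
  have hg0 : ∀ q, Epi (S.g.hom.app (op q)) := fun q => (hS q).epi_g
  have hex : ∀ (q : ℤ) ⦃T : A⦄ (x : T ⟶ S.X₂.obj.obj (op q)), x ≫ S.g.hom.app (op q) = 0 →
      ∃ (T' : A) (π : T' ⟶ T) (_ : Epi π) (z : T' ⟶ S.X₁.obj.obj (op q)),
        π ≫ x = z ≫ S.f.hom.app (op q) :=
    fun q T x hx => (hS q).exact.exact_up_to_refinements x hx
  have hfg : ∀ q, S.f.hom.app (op q) ≫ S.g.hom.app (op q) = 0 := fun q => by
    rw [← NatTrans.comp_app, ← ObjectProperty.FullSubcategory.comp_hom, S.zero]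
    rfl
  have hfs : Str S.f.hom := by
    intro p q h T y x hyx
    refine hex q y ?_
    haveI : Mono (tr S.X₃.obj h) := monoFil S.X₃ _
    rw [← cancel_mono (tr S.X₃.obj h), Category.assoc, ← app_tr, ← Category.assoc, hyx,
      Category.assoc, hfg, comp_zero, zero_comp]
  have hgs : Str S.g.hom := fun p q h T y x _ => by
    haveI := hg0 q
    obtain ⟨T', π, hπ, x', hx'⟩ := surjective_up_to_refinements_of_epi (S.g.hom.app (op q)) y
    exact ⟨T', π, hπ, x', hx'⟩
  haveI hgepi : Epi S.g := ⟨fun u u' e => by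
    ext q
    haveI := hg0 q.unop
    rw [← cancel_epi (S.g.hom.app (op q.unop))]
    exact congrArg (fun m => m.hom.app q) e⟩
  obtain ⟨ext₀, hext₀⟩ := exists_ext S.f hfs (hI 0) (comp₀ a) (fun q T x hx => by
    haveI := hf0 q
    rw [show x = 0 by rw [← cancel_mono (S.f.hom.app (op q)), hx, zero_comp], zero_comp])
  obtain ⟨h', hh'⟩ := exists_ext S.g hgs (hI 1) (ext₀ ≫ I.d 0 1) (fun q T x hx => by
    obtain ⟨T', π, hπ, z, hz⟩ := hex q x hx
    rw [← cancel_epi π, comp_zero, ← Category.assoc, hz, Category.assoc]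
    have h1 : S.f ≫ ext₀ ≫ I.d 0 1 = 0 := by rw [← Category.assoc, hext₀, comp₀_d]
    have h2 : S.f.hom.app (op q) ≫ (ext₀ ≫ I.d 0 1).hom.app (op q) = 0 :=
      congrArg (fun m : S.X₁ ⟶ I.X 1 => m.hom.app (op q)) h1
    rw [h2, comp_zero])
  have hc0 := gr_mono_levels (comp₀ c) (fun p => (comp₀_gr c hc p).1)
  obtain ⟨δ₀, hδ₀⟩ := exists_ext (comp₀ c) hc0.2 (hI 1) (-h') (fun q T x hx => by
    haveI := hc0.1 q
    rw [show x = 0 by rw [← cancel_mono ((comp₀ c).hom.app (op q)), hx, zero_comp], zero_comp])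
  let P : ∀ n, (J.X n ⟶ I.X (n + 1)) → Prop := fun n δ =>
    ∀ (q : ℤ) ⦃T : A⦄ (x : T ⟶ (J.X n).obj.obj (op q)), x ≫ (J.d n (n + 1)).hom.app (op q) = 0 →
      x ≫ (δ ≫ I.d (n + 1) (n + 1 + 1)).hom.app (op q) = 0
  have hP0 : P 0 δ₀ := fun q T x hx => by
    obtain ⟨T', π, hπ, z, hz⟩ := levels_exact (comp₀ c).hom (J.d 0 1).hom
      (congrArg (fun m => m.hom) (comp₀_d c)) (monoFil (J.X 1)) (exists_bound (J.X 0))
      (fun p => (comp₀_gr c hc p).2) q x hx
    rw [← cancel_epi π, comp_zero, ← Category.assoc, hz, Category.assoc]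
    have h1 : comp₀ c ≫ δ₀ ≫ I.d (0 + 1) (0 + 1 + 1) = 0 := by
      rw [← Category.assoc, hδ₀, Preadditive.neg_comp, neg_eq_zero, ← cancel_epi S.g, comp_zero,
        ← Category.assoc, hh', Category.assoc]
      change ext₀ ≫ I.d 0 1 ≫ I.d 1 (1 + 1) = 0
      rw [I.d_comp_d, comp_zero]
    have h2 : (comp₀ c).hom.app (op q) ≫ (δ₀ ≫ I.d (0 + 1) (0 + 1 + 1)).hom.app (op q) = 0 :=
      congrArg (fun m : S.X₃ ⟶ I.X (0 + 1 + 1) => m.hom.app (op q)) h1
    rw [h2, comp_zero]
  let St : ℤ → Type v := fun n => {δ : J.X n ⟶ I.X (n + 1) // P n δ}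
  let base : ∀ n, n ≤ 0 → St n := fun n hn =>
    if e : n = 0 then e ▸ (⟨δ₀, hP0⟩ : St 0) else
      ⟨0, fun q T x _ => by rw [zero_comp]; exact comp_zero⟩
  obtain ⟨s, hs, hs0⟩ := exists_seq_int 0
    (fun n (s : St n) (t : St (n + 1)) =>
      J.d n (n + 1) ≫ t.1 + s.1 ≫ I.d (n + 1) (n + 1 + 1) = 0) base
    (fun n h => (J.isZero_of_isStrictlyGE 0 n (by omega)).eq_of_src _ _)
    (fun n hn s => by
      obtain ⟨δ, hδ⟩ := s
      have hd : Str (J.d n (n + 1)).hom := by
        by_cases e : n = 0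
        · subst e
          exact str_right _ _ _ (monoFil (J.X 1)) (fun p => (comp₀_gr c hc p).2)
        · exact str_right (J.d (n - 1) n).hom _
            (congrArg (fun m : J.X (n - 1) ⟶ J.X (n + 1) => m.hom) (J.d_comp_d _ _ _))
            (monoFil (J.X (n + 1))) (fun p => (HomologicalComplex.exactAt_iff' _ (n - 1) n (n + 1)
              (by simp) (by simp)).mp (exactAt_of_quasiIso_single c hc p n e))
      obtain ⟨t, ht⟩ := exists_ext (J.d n (n + 1)) hd (hI (n + 1 + 1))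
        (-(δ ≫ I.d (n + 1) (n + 1 + 1))) (fun q T x hx => by
          change x ≫ (-((δ ≫ I.d (n + 1) (n + 1 + 1)).hom.app (op q))) = 0
          rw [Preadditive.comp_neg, hδ q x hx, neg_zero])
      refine ⟨⟨t, fun q T x hx => ?_⟩, by rw [ht]; exact neg_add_cancel _⟩
      obtain ⟨T', π, hπ, y, hy⟩ := levels_exact (J.d n (n + 1)).hom (J.d (n + 1) (n + 1 + 1)).hom
        (congrArg (fun m : J.X n ⟶ J.X (n + 1 + 1) => m.hom) (J.d_comp_d _ _ _))
        (monoFil (J.X (n + 1 + 1))) (exists_bound (J.X (n + 1)))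
        (fun p => gr_exact_of_exactAt J p n (exactAt_of_quasiIso_single c hc p (n + 1) (by omega))) q x hx
      rw [← cancel_epi π, comp_zero, ← Category.assoc, hy, Category.assoc]
      have h1 : J.d n (n + 1) ≫ t ≫ I.d (n + 1 + 1) (n + 1 + 1 + 1) = 0 := by
        rw [← Category.assoc, ht, Preadditive.neg_comp, Category.assoc, I.d_comp_d, comp_zero, neg_zero]
      have h2 : (J.d n (n + 1)).hom.app (op q) ≫
          (t ≫ I.d (n + 1 + 1) (n + 1 + 1 + 1)).hom.app (op q) = 0 :=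
        congrArg (fun m : J.X n ⟶ I.X (n + 1 + 1 + 1) => m.hom.app (op q)) h1
      rw [h2, comp_zero])
  have hs00 : (s 0).1 = δ₀ := by
    rw [hs0 0 le_rfl]
    simp [base]
  let dMn : ∀ n, (I.X n ⊞ J.X n) ⟶ (I.X (n + 1) ⊞ J.X (n + 1)) := fun n =>
    biprod.desc (I.d n (n + 1) ≫ biprod.inl)
      ((s n).1 ≫ biprod.inl + J.d n (n + 1) ≫ biprod.inr)
  let M : CochainComplex (FilD.FilF A) ℤ :=
    CochainComplex.of (fun n => I.X n ⊞ J.X n) dMn (fun n => by
      refine biprod.hom_ext' _ _ ?_ ?_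
      · simp [dMn]
      · simp only [dMn, biprod.inr_desc_assoc, Preadditive.add_comp, Category.assoc, biprod.inl_desc,
          biprod.inr_desc, Preadditive.comp_add, comp_zero]
        rw [← Category.assoc (J.d n (n + 1)), ← Category.assoc (J.d n (n + 1)) (J.d _ _), J.d_comp_d,
          zero_comp, add_zero, ← Category.assoc (s n).1, ← Preadditive.add_comp,
          (add_comm _ _).trans (hs n), zero_comp])
  have hMd : ∀ n, M.d n (n + 1) = dMn n := fun n => CochainComplex.of_d (fun n => I.X n ⊞ J.X n) dMn n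
  let α : I ⟶ M :=
    { f := fun n => biprod.inl
      comm' := fun n m hnm => by
        obtain rfl : n + 1 = m := hnm
        rw [hMd]
        simp [dMn] }
  let β : M ⟶ J :=
    { f := fun n => biprod.snd
      comm' := fun n m hnm => by
        obtain rfl : n + 1 = m := hnm
        rw [hMd]
        refine biprod.hom_ext' _ _ ?_ ?_ <;> simp [dMn] }
  let b₀ : S.X₂ ⟶ M.X 0 := ext₀ ≫ biprod.inl + (S.g ≫ comp₀ c) ≫ biprod.inr
  have hb₀ : b₀ ≫ M.d 0 1 = 0 := by
    rw [show M.d 0 1 = dMn 0 from hMd 0]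
    simp only [b₀, dMn, Preadditive.add_comp, Category.assoc, biprod.inl_desc, biprod.inr_desc,
      Preadditive.comp_add, hs00]
    rw [← Category.assoc (comp₀ c) (J.d 0 (0 + 1)), show comp₀ c ≫ J.d 0 (0 + 1) = 0 from comp₀_d c,
      zero_comp, comp_zero, add_zero, ← Category.assoc (comp₀ c), hδ₀, Preadditive.neg_comp,
      Preadditive.comp_neg, ← Category.assoc S.g, hh', Category.assoc]
    exact add_neg_cancel _
  let b : (HomologicalComplex.single (FilD.FilF A) (ComplexShape.up ℤ) 0).obj S.X₂ ⟶ M :=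
    HomologicalComplex.mkHomFromSingle b₀ (fun i hi => by
      obtain rfl : (0 : ℤ) + 1 = i := hi
      exact hb₀)
  refine ⟨M, α, β, b, fun n => ⟨biprod.fst, biprod.inr, biprod.inl_fst, biprod.inr_snd,
    biprod.inl_snd, biprod.total⟩, ?_, ?_⟩
  · refine HomologicalComplex.from_single_hom_ext ?_
    rw [← cancel_epi (HomologicalComplex.singleObjXSelf (ComplexShape.up ℤ) 0 S.X₁).inv]
    change _ ≫ a.f 0 ≫ biprod.inl =
      _ ≫ ((HomologicalComplex.single _ (ComplexShape.up ℤ) 0).map S.f).f 0 ≫ b.f 0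
    simp only [HomologicalComplex.single_map_f_self, b, HomologicalComplex.mkHomFromSingle_f,
      Category.assoc, Iso.inv_hom_id_assoc, b₀, Preadditive.comp_add]
    rw [← Category.assoc S.f S.g, S.zero, zero_comp, add_zero, ← Category.assoc S.f, hext₀,
      comp₀, Category.assoc]
  · refine HomologicalComplex.from_single_hom_ext ?_
    rw [← cancel_epi (HomologicalComplex.singleObjXSelf (ComplexShape.up ℤ) 0 S.X₂).inv]
    change _ ≫ b.f 0 ≫ biprod.snd =
      _ ≫ ((HomologicalComplex.single _ (ComplexShape.up ℤ) 0).map S.g).f 0 ≫ c.f 0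
    simp [HomologicalComplex.single_map_f_self, b, HomologicalComplex.mkHomFromSingle_f, b₀, comp₀]

end Groth.Misc1.Fil
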