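import Groth.Agent.Misc1.Fil.Extend

/-!
# Levelwise kernels and cokernels of morphisms of filtered objects
-/

set_option autoImplicit false

universe v u

open CategoryTheory CategoryTheory.Limits Opposite

namespace Groth.Misc1.Fil

variable {A : Type u} [Category.{v} A] [Abelian A]

lemma isFinFil_kernel {X Y : FilD.FilF A} (φ : X ⟶ Y) : FilD.IsFinFil A (kernel φ.hom) := by
  haveI hι : ∀ r, Mono ((kernel.ι φ.hom).app r) := fun r => by
    haveI := preservesMonomorphisms_of_preservesLimitsOfShape ((evaluation ℤᵒᵖ A).obj r)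
    exact inferInstanceAs (Mono (((evaluation ℤᵒᵖ A).obj r).map (kernel.ι φ.hom)))
  have hm : MonoFil (kernel φ.hom) := fun p q g => by
    haveI := monoFil X g
    exact mono_of_mono_fac ((kernel.ι φ.hom).naturality g)
  obtain ⟨b, hb⟩ := exists_bound X
  obtain ⟨a₁, ha₁⟩ := X.property.2.2
  obtain ⟨a₂, ha₂⟩ := Y.property.2.2
  refine ⟨hm, ⟨b, fun p hp => (hb p hp).of_mono ((kernel.ι φ.hom).app (op p))⟩, min a₁ a₂, fun p q g hp => ?_⟩
  haveI := hm g
  haveI := ha₁ g (by omega)
  haveI := ha₂ g (by omega)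
  haveI : Epi ((kernel φ.hom).map g) := by
    rw [epi_iff_surjective_up_to_refinements]
    intro T k
    have h0 : (k ≫ (kernel.ι φ.hom).app q ≫ inv (X.obj.map g)) ≫ φ.hom.app p = 0 := by
      rw [← cancel_mono (Y.obj.map g), zero_comp]
      simp only [Category.assoc]
      rw [← φ.hom.naturality g, IsIso.inv_hom_id_assoc, ← NatTrans.comp_app, kernel.condition]
      simp
    obtain ⟨w, hw⟩ := kernel_app_lift φ.hom p.unop _ h0
    refine ⟨T, 𝟙 _, inferInstance, w, ?_⟩
    rw [← cancel_mono ((kernel.ι φ.hom).app q), Category.assoc, Category.assoc,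
      (kernel.ι φ.hom).naturality g, ← Category.assoc w]
    erw [hw]
    simp
  exact isIso_of_mono_of_epi _

lemma app_mono {X Y : FilD.FilF A} (u : X ⟶ Y) [Mono u] (q : ℤ) : Mono (u.hom.app (op q)) := by
  let K : FilD.FilF A := ⟨kernel u.hom, isFinFil_kernel u⟩
  have hι : kernel.ι u.hom = 0 := by
    have h : (ObjectProperty.homMk (kernel.ι u.hom) : K ⟶ X) ≫ u = 0 ≫ u := by
      rw [zero_comp]; ext r
      change (kernel.ι u.hom ≫ u.hom).app r = _
      rw [kernel.condition]; rfl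
    exact congrArg (fun m : K ⟶ X => m.hom) ((cancel_mono u).mp h)
  rw [Preadditive.mono_iff_cancel_zero]
  intro T x hx
  obtain ⟨k, hk⟩ := kernel_app_lift u.hom q x hx
  rw [← hk, hι]; simp

lemma isFinFil_cokernel {X Y : FilD.FilF A} (φ : X ⟶ Y) (hs : Str φ.hom) :
    FilD.IsFinFil A (cokernel φ.hom) := by
  haveI hπ : ∀ r, Epi ((cokernel.π φ.hom).app r) := fun r => by
    haveI := preservesEpimorphisms_of_preservesColimitsOfShape ((evaluation ℤᵒᵖ A).obj r)
    exact inferInstanceAs (Epi (((evaluation ℤᵒᵖ A).obj r).map (cokernel.π φ.hom)))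
  have hcok : ∀ (r : ℤᵒᵖ), IsColimit (CokernelCofork.ofπ ((cokernel.π φ.hom).app r)
      (by rw [← NatTrans.comp_app, cokernel.condition]; rfl : φ.hom.app r ≫ _ = 0)) := fun r =>
    isColimitCoforkMapOfIsColimit' ((evaluation ℤᵒᵖ A).obj r) (cokernel.condition φ.hom)
      (cokernelIsCokernel φ.hom)
  have hm : MonoFil (cokernel φ.hom) := fun p q g => by
    rw [Preadditive.mono_iff_cancel_zero]
    intro T c hc
    obtain ⟨T₁, π₁, hπ₁, y, hy⟩ := surjective_up_to_refinements_of_epi ((cokernel.π φ.hom).app p) c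
    have h0 : (y ≫ Y.obj.map g) ≫ (cokernel.π φ.hom).app q = 0 := by
      rw [Category.assoc, (cokernel.π φ.hom).naturality g, ← Category.assoc, ← hy, Category.assoc,
        hc, comp_zero]
    obtain ⟨T₂, π₂, hπ₂, x, hx⟩ :=
      (CokernelCofork.IsColimit.comp_π_eq_zero_iff_up_to_refinements (hcok q) _).mp h0
    have hg : g = (homOfLE (leOfHom g.unop)).op := rfl
    obtain ⟨T₃, π₃, hπ₃, x', hx'⟩ := hs (leOfHom g.unop) (π₂ ≫ y) x (by
      rw [Category.assoc]; exact hx)
    rw [← cancel_epi (π₃ ≫ π₂ ≫ π₁), comp_zero, Category.assoc, Category.assoc, hy,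
      ← Category.assoc π₂, ← Category.assoc π₃]
    erw [hx']
    rw [Category.assoc, ← NatTrans.comp_app, cokernel.condition]
    simp
  obtain ⟨b, hb⟩ := exists_bound Y
  obtain ⟨a, ha⟩ := Y.property.2.2
  refine ⟨hm, ⟨b, fun p hp => (hb p hp).of_epi ((cokernel.π φ.hom).app (op p))⟩, a, fun p q g hp => ?_⟩
  haveI := hm g
  haveI := ha g hp
  haveI : Epi ((cokernel φ.hom).map g) :=
    epi_of_epi_fac ((cokernel.π φ.hom).naturality g).symm
  exact isIso_of_mono_of_epi _

end Groth.Misc1.Fil
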