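import Groth.Agent.Misc1.Fil.Cone
import Groth.Agent.Misc1.Fil.Embed
import Groth.Agent.Misc1.Fil.Rec
import Mathlib.Algebra.Homology.Embedding.CochainComplex

/-!
# Resolutions of bounded below filtered complexes by filtered injective objects
-/

set_option autoImplicit false
set_option linter.style.haveILetI false

universe v u

open CategoryTheory CategoryTheory.Limits Opposite

namespace Groth.Misc1.Fil

variable {A : Type u} [Category.{v} A] [Abelian A]

lemma mono_of_app {X Y : FilD.FilF A} (f : X ⟶ Y) (h : ∀ q, Mono (f.hom.app (op q))) : Mono f := by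
  refine ⟨fun g g' e => ?_⟩
  ext q
  haveI := h q.unop
  rw [← cancel_mono (f.hom.app (op q.unop))]
  exact congrArg (fun m => m.hom.app q) e

lemma isZero_gr {X : FilD.FilF A} (hX : IsZero X) (p : ℤ) : IsZero ((FilD.grF A p).obj X) :=
  Functor.map_isZero _ hX

lemma exists_emb [EnoughInjectives A] (X : FilD.FilF A) :
    ∃ (I : FilD.FilF A) (u : X ⟶ I), FilD.IsFilteredInjective I ∧
      (∀ p, Mono ((FilD.grF A p).map u)) ∧ (IsZero X → IsZero I) := by
  by_cases h : IsZero X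
  · exact ⟨X, 𝟙 X, fun p => ⟨fun g f _ => ⟨0, (isZero_gr h p).eq_of_tgt _ _⟩⟩,
      fun p => inferInstance, id⟩
  · obtain ⟨I, u, hI, hm, hs⟩ := exists_embedding X
    exact ⟨I, u, hI, fun p => gr_mono_of_str u.hom hm hs p, fun hh => absurd hh h⟩

/-- intermediate data of the construction -/
structure ResSt (K : CochainComplex (FilD.FilF A) ℤ) (n : ℤ) where
  /-- the object to embed -/
  P : FilD.FilF A
  /-- towards the complex -/
  δ : P ⟶ K.X (n + 1)
  /-- from the complex -/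
  θ : K.X n ⟶ P
  θδ : θ ≫ δ = -K.d n (n + 1)
  δd : δ ≫ K.d (n + 1) (n + 1 + 1) = 0

/-- relation between consecutive steps -/
def ResRel (K : CochainComplex (FilD.FilF A) ℤ) (J : FilD.FilF A → FilD.FilF A)
    (j : ∀ X, X ⟶ J X) (n : ℤ) (s : ResSt K n) (t : ResSt K (n + 1)) : Prop :=
  ∃ μ : J s.P ⟶ t.P, s.δ ≫ t.θ + j s.P ≫ μ = 0 ∧ μ ≫ t.δ = 0 ∧
    (∀ (p : ℤ) ⦃T : A⦄ (k : T ⟶ (FilD.grF A p).obj (K.X (n + 1))) (i : T ⟶ (FilD.grF A p).obj (J s.P)),
      k ≫ (FilD.grF A p).map t.θ + i ≫ (FilD.grF A p).map μ = 0 →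
      ∃ (T' : A) (π : T' ⟶ T) (_ : Epi π) (q : T' ⟶ (FilD.grF A p).obj s.P),
        π ≫ k = q ≫ (FilD.grF A p).map s.δ ∧ π ≫ i = q ≫ (FilD.grF A p).map (j s.P)) ∧
    (∀ (p : ℤ) ⦃T : A⦄ (x : T ⟶ (FilD.grF A p).obj t.P),
      ∃ (T' : A) (π : T' ⟶ T) (_ : Epi π) (k : T' ⟶ (FilD.grF A p).obj (K.X (n + 1)))
        (i : T' ⟶ (FilD.grF A p).obj (J s.P)),
        π ≫ x = k ≫ (FilD.grF A p).map t.θ + i ≫ (FilD.grF A p).map μ)

lemma gr_cokernel_lift_exact {X Y P : ℤᵒᵖ ⥤ A} (δ : P ⟶ X) (e : P ⟶ Y) (p : ℤ) ⦃T : A⦄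
    (k : T ⟶ (FilD.gr A p).obj X) (i : T ⟶ (FilD.gr A p).obj Y)
    (h : k ≫ (FilD.gr A p).map (biprod.inl ≫ cokernel.π (biprod.lift δ e)) +
      i ≫ (FilD.gr A p).map (biprod.inr ≫ cokernel.π (biprod.lift δ e)) = 0) :
    ∃ (T' : A) (π : T' ⟶ T) (_ : Epi π) (q : T' ⟶ (FilD.gr A p).obj P),
      π ≫ k = q ≫ (FilD.gr A p).map δ ∧ π ≫ i = q ≫ (FilD.gr A p).map e := by
  let x : T ⟶ (FilD.gr A p).obj (X ⊞ Y) :=
    k ≫ (FilD.gr A p).map biprod.inl + i ≫ (FilD.gr A p).map biprod.inr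
  have hx : x ≫ (FilD.gr A p).map (cokernel.π (biprod.lift δ e)) = 0 := by
    simp only [x, Preadditive.add_comp, Category.assoc, ← Functor.map_comp]
    exact h
  obtain ⟨T', π', hπ', q, hq⟩ := gr_cokernel_exact (biprod.lift δ e) p x hx
  refine ⟨T', π', hπ', q, ?_, ?_⟩
  · have h1 := hq =≫ (FilD.gr A p).map biprod.fst
    simpa [x, ← Functor.map_comp] using h1
  · have h1 := hq =≫ (FilD.gr A p).map biprod.snd
    simpa [x, ← Functor.map_comp] using h1

lemma gr_cokernel_lift_surj {X Y P : ℤᵒᵖ ⥤ A} (δ : P ⟶ X) (e : P ⟶ Y) (p : ℤ) ⦃T : A⦄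
    (x : T ⟶ (FilD.gr A p).obj (cokernel (biprod.lift δ e))) :
    ∃ (T' : A) (π : T' ⟶ T) (_ : Epi π) (k : T' ⟶ (FilD.gr A p).obj X)
      (i : T' ⟶ (FilD.gr A p).obj Y),
      π ≫ x = k ≫ (FilD.gr A p).map (biprod.inl ≫ cokernel.π (biprod.lift δ e)) +
        i ≫ (FilD.gr A p).map (biprod.inr ≫ cokernel.π (biprod.lift δ e)) := by
  haveI : Epi ((cokernel.π (biprod.lift δ e)).app (op p)) := by
    haveI := preservesEpimorphisms_of_preservesColimitsOfShape ((evaluation ℤᵒᵖ A).obj (op p))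
    exact inferInstanceAs (Epi (((evaluation ℤᵒᵖ A).obj (op p)).map (cokernel.π (biprod.lift δ e))))
  haveI := gr_epi (cokernel.π (biprod.lift δ e)) p
  obtain ⟨T', π', hπ', z, hz⟩ :=
    surjective_up_to_refinements_of_epi ((FilD.gr A p).map (cokernel.π (biprod.lift δ e))) x
  refine ⟨T', π', hπ', z ≫ (FilD.gr A p).map biprod.fst, z ≫ (FilD.gr A p).map biprod.snd, ?_⟩
  rw [hz]
  simp only [Category.assoc, ← Functor.map_comp, ← Preadditive.comp_add, ← Functor.map_add]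
  rw [← Category.assoc, ← Category.assoc biprod.snd, ← Preadditive.add_comp, biprod.total,
    Category.id_comp]

lemma exists_next (K : CochainComplex (FilD.FilF A) ℤ) (J : FilD.FilF A → FilD.FilF A)
    (j : ∀ X, X ⟶ J X) (hjm : ∀ X p, Mono ((FilD.grF A p).map (j X))) (n : ℤ) (s : ResSt K n) :
    ∃ t, ResRel K J j n s t := by
  let e : s.P.obj ⟶ (J s.P).obj := (j s.P).hom
  let fh : s.P.obj ⟶ (K.X (n + 1)).obj ⊞ (J s.P).obj := biprod.lift s.δ.hom e
  let f : s.P ⟶ ⟨(K.X (n + 1)).obj ⊞ (J s.P).obj, isFinFil_biprod _ _⟩ := ObjectProperty.homMk fh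
  have hf : ∀ p, Mono ((FilD.gr A p).map fh) := fun p => by
    haveI : Mono ((FilD.gr A p).map fh ≫ (FilD.gr A p).map biprod.snd) := by
      rw [← Functor.map_comp, biprod.lift_snd]
      exact hjm s.P p
    exact mono_of_mono ((FilD.gr A p).map fh) ((FilD.gr A p).map biprod.snd)
  let Q : FilD.FilF A := ⟨cokernel fh, isFinFil_cokernel f (gr_mono_levels f hf).2⟩
  let θh : (K.X (n + 1)).obj ⟶ Q.obj := biprod.inl ≫ cokernel.π fh
  let μh : (J s.P).obj ⟶ Q.obj := biprod.inr ≫ cokernel.π fh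
  have hc : fh ≫ biprod.desc (-(K.d (n + 1) (n + 1 + 1)).hom) 0 = 0 := by
    have := congrArg (fun m => m.hom) s.δd
    simp only [fh, biprod.lift_desc, Preadditive.comp_neg, comp_zero, add_zero, neg_eq_zero]
    exact this
  let δ : Q ⟶ K.X (n + 1 + 1) := ObjectProperty.homMk (cokernel.desc fh _ hc)
  refine ⟨⟨Q, δ, ObjectProperty.homMk θh, ?_, ?_⟩, ObjectProperty.homMk μh, ?_, ?_,
    fun p T k i hki => gr_cokernel_lift_exact s.δ.hom e p k i hki,
    fun p T x => gr_cokernel_lift_surj s.δ.hom e p x⟩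
  · apply InducedCategory.hom_ext
    change (biprod.inl ≫ cokernel.π fh) ≫ cokernel.desc fh _ hc = -(K.d (n + 1) (n + 1 + 1)).hom
    simp only [Category.assoc, cokernel.π_desc, biprod.inl_desc]
  · apply InducedCategory.hom_ext
    change cokernel.desc fh _ hc ≫ (K.d (n + 1 + 1) (n + 1 + 1 + 1)).hom = 0
    rw [← cancel_epi (cokernel.π fh), comp_zero, cokernel.π_desc_assoc]
    refine biprod.hom_ext' _ _ ?_ ?_
    · rw [biprod.inl_desc_assoc, Preadditive.neg_comp, comp_zero, neg_eq_zero]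
      exact congrArg (fun m => m.hom) (K.d_comp_d (n + 1) (n + 1 + 1) (n + 1 + 1 + 1))
    · simp
  · apply InducedCategory.hom_ext
    change s.δ.hom ≫ biprod.inl ≫ cokernel.π fh + e ≫ biprod.inr ≫ cokernel.π fh = 0
    rw [← Category.assoc, ← Category.assoc e, ← Preadditive.add_comp,
      show s.δ.hom ≫ biprod.inl + e ≫ biprod.inr = fh from biprod.lift_eq.symm]
    exact cokernel.condition _
  · apply InducedCategory.hom_ext
    change (biprod.inr ≫ cokernel.π fh) ≫ cokernel.desc fh _ hc = 0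
    simp only [Category.assoc, cokernel.π_desc, biprod.inr_desc]

theorem exists_resolution [EnoughInjectives A] (K : CochainComplex (FilD.FilF A) ℤ) (a : ℤ)
    [K.IsStrictlyGE a] :
    ∃ (I : CochainComplex (FilD.FilF A) ℤ) (φ : K ⟶ I), I.IsStrictlyGE a ∧
      (∀ n, FilD.IsFilteredInjective (I.X n)) ∧ FilD.IsFilteredQuasiIso φ ∧
      ∀ n p, Mono ((FilD.grF A p).map (φ.f n)) := by
  choose J j hJinj hjm hJz using fun X : FilD.FilF A => exists_emb X
  let base : ∀ n, n ≤ a → ResSt K n := fun n _ =>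
    ⟨K.X n, -K.d n (n + 1), 𝟙 _, Category.id_comp _, by rw [Preadditive.neg_comp, K.d_comp_d, neg_zero]⟩
  obtain ⟨s, hs, hs0⟩ := exists_seq_int a (ResRel K J j) base
    (fun n h => by
      have hz : IsZero (K.X n) := K.isZero_of_isStrictlyGE a n (by omega)
      have hzJ : IsZero (J (K.X n)) := hJz _ hz
      refine ⟨0, hz.eq_of_src _ _, hzJ.eq_of_src _ _, fun p T k i hki => ?_, fun p T x => ?_⟩
      · have hk : k = 0 := by simpa [base] using hki
        exact ⟨T, 𝟙 _, inferInstance, 0, by simp [hk], (isZero_gr hzJ p).eq_of_tgt _ _⟩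
      · exact ⟨T, 𝟙 _, inferInstance, x, 0, by simp [base]⟩)
    (fun n _ s => exists_next K J j hjm n s)
  choose μ hδθ hμδ hex hsurj using hs
  let I : CochainComplex (FilD.FilF A) ℤ :=
    CochainComplex.of (fun n => J (s n).P) (fun n => μ n ≫ j (s (n + 1)).P) (fun n => by
      have h1 : j (s (n + 1)).P ≫ μ (n + 1) = -((s (n + 1)).δ ≫ (s (n + 1 + 1)).θ) :=
        eq_neg_of_add_eq_zero_right (hδθ (n + 1))
      rw [Category.assoc, reassoc_of% h1, Preadditive.neg_comp, Preadditive.comp_neg,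
        Category.assoc, reassoc_of% (hμδ n)]
      simp)
  have hId : ∀ n, I.d n (n + 1) = μ n ≫ j (s (n + 1)).P := fun n => CochainComplex.of_d (fun n => J (s n).P) (fun n => μ n ≫ j (s (n + 1)).P) n
  let φ : K ⟶ I :=
    { f := fun n => (s n).θ ≫ j (s n).P
      comm' := fun n m hnm => by
        obtain rfl : n + 1 = m := hnm
        have h1 : j (s n).P ≫ μ n = -((s n).δ ≫ (s (n + 1)).θ) :=
          eq_neg_of_add_eq_zero_right (hδθ n)
        rw [hId]
        simp only [Category.assoc, reassoc_of% h1, Preadditive.neg_comp, Preadditive.comp_neg,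
          reassoc_of% (s n).θδ, neg_neg] }
  have hθm : ∀ m p, Mono ((FilD.grF A p).map (s (m + 1)).θ) := fun m p => by
    rw [Preadditive.mono_iff_cancel_zero]
    intro T k hk
    obtain ⟨T', π, hπ, q, h1, h2⟩ := hex m p k 0 (by rw [zero_comp, add_zero]; exact hk)
    haveI := hjm (s m).P p
    have hq : q = 0 := by
      rw [← cancel_mono ((FilD.grF A p).map (j (s m).P)), ← h2, comp_zero, zero_comp]
    rw [← cancel_epi π, h1, hq, zero_comp, comp_zero]
  have key : ∀ (l p : ℤ) ⦃T : A⦄ (k : T ⟶ (FilD.grF A p).obj (K.X (l + 1 + 1)))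
      (i : T ⟶ (FilD.grF A p).obj (I.X (l + 1))),
      k ≫ (FilD.grF A p).map (φ.f (l + 1 + 1)) + i ≫ (FilD.grF A p).map (I.d (l + 1) (l + 1 + 1)) = 0 →
      ∃ (T' : A) (π : T' ⟶ T) (_ : Epi π) (k' : T' ⟶ (FilD.grF A p).obj (K.X (l + 1)))
        (i' : T' ⟶ (FilD.grF A p).obj (I.X l)),
        π ≫ k = -(k' ≫ (FilD.grF A p).map (K.d (l + 1) (l + 1 + 1))) ∧
        π ≫ i = k' ≫ (FilD.grF A p).map (φ.f (l + 1)) + i' ≫ (FilD.grF A p).map (I.d l (l + 1)) := by
    intro l p T k i h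
    haveI := hjm (s (l + 1 + 1)).P p
    rw [hId] at h
    have hki' : k ≫ (FilD.grF A p).map (s (l + 1 + 1)).θ + i ≫ (FilD.grF A p).map (μ (l + 1)) = 0 := by
      rw [← cancel_mono ((FilD.grF A p).map (j (s (l + 1 + 1)).P)), zero_comp, Preadditive.add_comp,
        Category.assoc, Category.assoc, ← Functor.map_comp, ← Functor.map_comp]
      exact h
    obtain ⟨T₁, π₁, hπ₁, q, hq1, hq2⟩ := hex (l + 1) p k i hki'
    obtain ⟨T₂, π₂, hπ₂, k', i', hq⟩ := hsurj l p q
    refine ⟨T₂, π₂ ≫ π₁, epi_comp _ _, k', i', ?_, ?_⟩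
    · rw [Category.assoc, hq1, ← Category.assoc, hq]
      simp only [Preadditive.add_comp, Category.assoc, ← Functor.map_comp, (s (l + 1)).θδ, hμδ l,
        Functor.map_zero, comp_zero, add_zero, Functor.map_neg, Preadditive.comp_neg]
    · change (π₂ ≫ π₁) ≫ i = k' ≫ (FilD.grF A p).map ((s (l + 1)).θ ≫ j (s (l + 1)).P) + _
      rw [Category.assoc, hq2, ← Category.assoc, hq, hId]
      simp only [Preadditive.add_comp, Category.assoc, Functor.map_comp]
  refine ⟨I, φ, ?_, fun n => hJinj _, fun p => ?_, fun n p => ?_⟩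
  · rw [CochainComplex.isStrictlyGE_iff]
    intro n hn
    refine hJz _ ?_
    rw [hs0 n (by omega)]
    exact K.isZero_of_isStrictlyGE a n hn
  · refine quasiIso_of_coneExact _ fun l n m hl hm T k i _ hki => ?_
    subst hl hm
    exact key l p k i hki
  · obtain ⟨m, rfl⟩ : ∃ m, m + 1 = n := ⟨n - 1, by omega⟩
    haveI := hθm m p
    haveI := hjm (s (m + 1)).P p
    change Mono ((FilD.grF A p).map ((s (m + 1)).θ ≫ j (s (m + 1)).P))
    rw [Functor.map_comp]
    exact mono_comp _ _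

end Groth.Misc1.Fil
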