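import Groth.Agent.Misc1.Fil.Cone
import Groth.Agent.Misc1.Fil.Resolution
import Groth.Agent.Misc1.Fil.Homotopy

/-!
# Canonical truncations of filtered complexes
-/

set_option autoImplicit false
set_option linter.style.haveILetI false

universe v u

open CategoryTheory CategoryTheory.Limits Opposite

namespace Groth.Misc1.Fil

variable {A : Type u} [Category.{v} A] [Abelian A]

/-- Elementwise exactness of a graded complex at an exact degree. -/
lemma exact_elt (K : CochainComplex (FilD.FilF A) ℤ) (p i j k : ℤ) (hij : i + 1 = j) (hjk : j + 1 = k)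
    (h : ((FilD.grCx p).obj K).ExactAt j) ⦃T : A⦄ (z : T ⟶ (FilD.gr A p).obj (K.X j).obj)
    (hz : z ≫ (FilD.gr A p).map (K.d j k).hom = 0) :
    ∃ (T' : A) (π : T' ⟶ T) (_ : Epi π) (v : T' ⟶ (FilD.gr A p).obj (K.X i).obj),
      π ≫ z = v ≫ (FilD.gr A p).map (K.d i j).hom := by
  subst hij hjk
  exact (gr_exact_of_exactAt K p i h).exact_up_to_refinements z hz

lemma exists_isFinFil_biprod (X Y : FilD.FilF A) :
    ∃ Z : FilD.FilF A, Z.obj = (X.obj ⊞ Y.obj) := ⟨⟨_, isFinFil_biprod X Y⟩, rfl⟩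

lemma str_kernel_ι {X Y : ℤᵒᵖ ⥤ A} (φ : X ⟶ Y) (hY : MonoFil Y) : Str (kernel.ι φ) := by
  intro p q h T y x hyx
  haveI : Mono (tr Y h) := hY _
  have h0 : y ≫ φ.app (op q) = 0 := by
    rw [← cancel_mono (tr Y h), Category.assoc, ← app_tr, ← Category.assoc, hyx, Category.assoc,
      ← NatTrans.comp_app, kernel.condition, zero_comp]
    simp
  obtain ⟨k, hk⟩ := kernel_app_lift φ q y h0
  exact ⟨T, 𝟙 _, inferInstance, k, by rw [Category.id_comp, hk]⟩

lemma gr_kernel_ι_mono {X Y : FilD.FilF A} (φ : X ⟶ Y) (p : ℤ) :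
    Mono ((FilD.gr A p).map (kernel.ι φ.hom)) := by
  refine gr_mono_of_str _ (fun q => ?_) (str_kernel_ι _ (monoFil Y)) p
  haveI := preservesMonomorphisms_of_preservesLimitsOfShape ((evaluation ℤᵒᵖ A).obj (op q))
  exact inferInstanceAs (Mono (((evaluation ℤᵒᵖ A).obj (op q)).map (kernel.ι φ.hom)))

theorem exists_truncGE (K : CochainComplex (FilD.FilF A) ℤ) (a : ℤ)
    (hK : ∀ (p n : ℤ), n < a → ((FilD.grCx p).obj K).ExactAt n) :
    ∃ (L : CochainComplex (FilD.FilF A) ℤ) (φ : K ⟶ L), L.IsStrictlyGE a ∧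
      FilD.IsFilteredQuasiIso φ := by
  classical
  let c₁ : ∀ n, (K.X (n - 1)).obj ⟶ (K.X n).obj := fun n => if n = a then (K.d (n - 1) n).hom else 0
  let c₂ : ∀ n, (K.X n).obj ⟶ (K.X n).obj := fun n => if n < a then 𝟙 _ else 0
  let u : ∀ n, (K.X (n - 1)).obj ⊞ (K.X n).obj ⟶ (K.X n).obj := fun n => biprod.desc (c₁ n) (c₂ n)
  let src : ℤ → FilD.FilF A := fun n => ⟨_, isFinFil_biprod (K.X (n - 1)) (K.X n)⟩
  have hs : ∀ n, Str (u n) := fun n => by
    intro p q h T y x hyx
    by_cases h₁ : n < a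
    · refine ⟨T, 𝟙 _, inferInstance, y ≫ (biprod.inr : _ ⟶ (K.X (n - 1)).obj ⊞ (K.X n).obj).app (op q), ?_⟩
      rw [Category.id_comp, Category.assoc, ← NatTrans.comp_app, biprod.inr_desc]
      simp [c₂, if_pos h₁]
    have e₂ : c₂ n = 0 := if_neg h₁
    have e : u n = biprod.fst ≫ c₁ n := by
      refine biprod.hom_ext' _ _ ?_ ?_ <;> simp [u, e₂]
    by_cases h₂ : n = a
    · have e₁ : c₁ n = (K.d (n - 1) n).hom := if_pos h₂
      have hd : Str (K.d (n - 1) n).hom :=
        str_right (K.d (n - 1 - 1) (n - 1)).hom _ (congrArg (fun m : K.X (n - 1 - 1) ⟶ K.X n => m.hom) (K.d_comp_d _ _ _))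
          (monoFil (K.X n)) (fun p => (HomologicalComplex.exactAt_iff' _ (n - 1 - 1) (n - 1) n
            (by simp) (by simp)).mp (hK p (n - 1) (by omega)))
      obtain ⟨T', π, hπ, x', hx'⟩ := hd h y (x ≫ (biprod.fst : (K.X (n - 1)).obj ⊞ (K.X n).obj ⟶ _).app (op p)) (by
        rw [hyx, e, e₁, NatTrans.comp_app, Category.assoc])
      refine ⟨T', π, hπ, x' ≫ (biprod.inl : _ ⟶ (K.X (n - 1)).obj ⊞ (K.X n).obj).app (op q), ?_⟩
      rw [hx', Category.assoc, ← NatTrans.comp_app, biprod.inl_desc, e₁]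
    · have e₁ : c₁ n = 0 := if_neg h₂
      haveI : Mono (tr (K.X n).obj h) := monoFil (K.X n) _
      refine ⟨T, 𝟙 _, inferInstance, 0, ?_⟩
      rw [← cancel_mono (tr (K.X n).obj h), Category.id_comp, hyx, e, e₁]
      simp
  let P : ℤ → FilD.FilF A := fun n =>
    ⟨cokernel (u n), isFinFil_cokernel (X := src n) (Y := K.X n) (ObjectProperty.homMk (u n)) (hs n)⟩
  let π : ∀ n, K.X n ⟶ P n := fun n => ObjectProperty.homMk (cokernel.π (u n))
  have hπa : ∀ i, i + 1 = a → (K.d i a).hom ≫ cokernel.π (u a) = 0 := by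
    intro i hi
    obtain rfl : i = a - 1 := by omega
    have := biprod.inl ≫= cokernel.condition (u a)
    simpa [u, c₁] using this
  have hπz : ∀ n, n < a → cokernel.π (u n) = 0 := fun n hn => by
    have := biprod.inr ≫= cokernel.condition (u n)
    simpa [u, c₂, if_pos hn] using this
  have hc : ∀ n, u n ≫ (K.d n (n + 1)).hom ≫ cokernel.π (u (n + 1)) = 0 := fun n => by
    refine biprod.hom_ext' _ _ ?_ ?_
    · rw [biprod.inl_desc_assoc, comp_zero]
      by_cases h : n = a
      · simp only [c₁, if_pos h]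
        rw [← Category.assoc, ← ObjectProperty.FullSubcategory.comp_hom, K.d_comp_d]
        simp
      · simp [c₁, if_neg h]
    · rw [biprod.inr_desc_assoc, comp_zero]
      by_cases h : n < a
      · simp only [c₂, if_pos h, Category.id_comp]
        by_cases h' : n + 1 = a
        · subst h'
          exact hπa n rfl
        · rw [hπz (n + 1) (by omega), comp_zero]
      · simp [c₂, if_neg h]
  let dL : ∀ n, P n ⟶ P (n + 1) := fun n =>
    ObjectProperty.homMk (cokernel.desc (u n) _ (hc n))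
  have hdL : ∀ n, π n ≫ dL n = K.d n (n + 1) ≫ π (n + 1) := fun n =>
    InducedCategory.hom_ext (cokernel.π_desc _ _ _)
  haveI hπepi : ∀ n, Epi (π n) := fun n => ⟨fun g g' e => by
    apply InducedCategory.hom_ext
    rw [← cancel_epi (cokernel.π (u n))]
    exact congrArg (fun m => m.hom) e⟩
  let L : CochainComplex (FilD.FilF A) ℤ := CochainComplex.of P dL (fun n => by
    rw [← cancel_epi (π n), reassoc_of% hdL, hdL, comp_zero, K.d_comp_d_assoc, zero_comp])
  have hLd : ∀ n, L.d n (n + 1) = dL n := fun n => CochainComplex.of_d P dL n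
  let φ : K ⟶ L :=
    { f := π
      comm' := fun n m hnm => by
        obtain rfl : n + 1 = m := hnm
        rw [hLd]
        exact hdL n }
  refine ⟨L, φ, ?_, fun p => quasiIso_of_coneExact _ ?_⟩
  · rw [CochainComplex.isStrictlyGE_iff]
    intro n hn
    rw [IsZero.iff_id_eq_zero, ← cancel_epi (π n), comp_zero]
    exact InducedCategory.hom_ext (by
      change cokernel.π (u n) ≫ 𝟙 _ = 0
      rw [hπz n hn, zero_comp])
  · intro l n m hl hm T k₀ i₀ hk hki
    subst hl hm
    let k : T ⟶ (FilD.gr A p).obj (K.X (l + 1 + 1)).obj := k₀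
    let i : T ⟶ (FilD.gr A p).obj (cokernel (u (l + 1))) := i₀
    have hk' : k ≫ (FilD.gr A p).map (K.d (l + 1 + 1) (l + 1 + 1 + 1)).hom = 0 := hk
    have hki' : k ≫ (FilD.gr A p).map (cokernel.π (u (l + 1 + 1))) +
        i ≫ (FilD.gr A p).map (dL (l + 1)).hom = 0 := by
      rw [← hLd]
      exact hki
    haveI : Epi ((cokernel.π (u (l + 1))).app (op p)) := by
      haveI := preservesEpimorphisms_of_preservesColimitsOfShape ((evaluation ℤᵒᵖ A).obj (op p))
      exact inferInstanceAs (Epi (((evaluation ℤᵒᵖ A).obj (op p)).map (cokernel.π (u (l + 1)))))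
    haveI := gr_epi (cokernel.π (u (l + 1))) p
    obtain ⟨T₁, π₁, hπ₁, c, hc'⟩ :=
      surjective_up_to_refinements_of_epi ((FilD.gr A p).map (cokernel.π (u (l + 1)))) i
    let z := π₁ ≫ k + c ≫ (FilD.gr A p).map (K.d (l + 1) (l + 1 + 1)).hom
    have hzd : z ≫ (FilD.gr A p).map (K.d (l + 1 + 1) (l + 1 + 1 + 1)).hom = 0 := by
      simp only [z, Preadditive.add_comp, Category.assoc, hk', comp_zero, zero_add, ← Functor.map_comp]
      rw [← ObjectProperty.FullSubcategory.comp_hom, K.d_comp_d]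
      simp
    have hzπ : z ≫ (FilD.gr A p).map (cokernel.π (u (l + 1 + 1))) = 0 := by
      have h1 := π₁ ≫= hki'
      have h2 : cokernel.π (u (l + 1)) ≫ (dL (l + 1)).hom =
          (K.d (l + 1) (l + 1 + 1)).hom ≫ cokernel.π (u (l + 1 + 1)) := cokernel.π_desc _ _ _
      rw [Preadditive.comp_add, comp_zero, ← Category.assoc π₁ i, hc', Category.assoc c,
        ← Functor.map_comp, h2, Functor.map_comp] at h1
      simpa only [z, Preadditive.add_comp, Category.assoc] using h1
    obtain ⟨T₂, π₂, hπ₂, v, hv, hv0⟩ : ∃ (T₂ : A) (π₂ : T₂ ⟶ T₁) (_ : Epi π₂)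
        (v : T₂ ⟶ (FilD.gr A p).obj (K.X (l + 1)).obj),
        π₂ ≫ z = v ≫ (FilD.gr A p).map (K.d (l + 1) (l + 1 + 1)).hom ∧
        v ≫ (FilD.gr A p).map (cokernel.π (u (l + 1))) = 0 := by
      by_cases h : l + 1 + 1 < a
      · obtain ⟨T₂, π₂, hπ₂, v, hv⟩ := exact_elt K p (l + 1) (l + 1 + 1) (l + 1 + 1 + 1) rfl rfl
          (hK p _ h) z hzd
        exact ⟨T₂, π₂, hπ₂, v, hv, by rw [hπz _ (by omega), Functor.map_zero, comp_zero]⟩
      obtain ⟨T₂, π₂, hπ₂, w, hw⟩ := gr_cokernel_exact (u (l + 1 + 1)) p z hzπ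
      have e₂ : c₂ (l + 1 + 1) = 0 := if_neg h
      have eu : u (l + 1 + 1) = biprod.fst ≫ c₁ (l + 1 + 1) := by
        refine biprod.hom_ext' _ _ ?_ ?_ <;> simp [u, e₂]
      by_cases h' : l + 1 + 1 = a
      · have key : ∀ (i : ℤ) (hi : i = l + 1), ∀ w' : T₂ ⟶ (FilD.gr A p).obj (K.X i).obj,
            π₂ ≫ z = w' ≫ (FilD.gr A p).map (K.d i (l + 1 + 1)).hom →
            ∃ v : T₂ ⟶ (FilD.gr A p).obj (K.X (l + 1)).obj,
              π₂ ≫ z = v ≫ (FilD.gr A p).map (K.d (l + 1) (l + 1 + 1)).hom := by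
          intro i hi w' hw'
          subst hi
          exact ⟨w', hw'⟩
        have e₁ : c₁ (l + 1 + 1) = (K.d (l + 1 + 1 - 1) (l + 1 + 1)).hom := if_pos h'
        rw [eu, e₁, Functor.map_comp, ← Category.assoc] at hw
        obtain ⟨v, hv⟩ := key (l + 1 + 1 - 1) (by omega) _ hw
        exact ⟨T₂, π₂, hπ₂, v, hv, by rw [hπz _ (by omega), Functor.map_zero, comp_zero]⟩
      · refine ⟨T₂, π₂, hπ₂, 0, ?_, zero_comp⟩
        rw [zero_comp, hw, eu, show c₁ (l + 1 + 1) = 0 from if_neg h']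
        simp
    refine ⟨T₂, π₂ ≫ π₁, epi_comp _ _, π₂ ≫ c - v, 0, ?_, ?_⟩
    · change (π₂ ≫ π₁) ≫ k = -((π₂ ≫ c - v) ≫ (FilD.gr A p).map (K.d (l + 1) (l + 1 + 1)).hom)
      rw [Preadditive.sub_comp, ← hv]
      simp only [z, Preadditive.comp_add, Category.assoc]
      abel
    · suffices h1 : (π₂ ≫ π₁) ≫ i = (π₂ ≫ c - v) ≫ (FilD.gr A p).map (cokernel.π (u (l + 1))) from
        h1.trans ((add_zero _).symm.trans (congrArg _ zero_comp.symm))
      rw [Preadditive.sub_comp, hv0, sub_zero, Category.assoc, hc', Category.assoc]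

theorem exists_truncLE (K : CochainComplex (FilD.FilF A) ℤ) (b : ℤ)
    (hK : ∀ (p n : ℤ), b < n → ((FilD.grCx p).obj K).ExactAt n) :
    ∃ (M : CochainComplex (FilD.FilF A) ℤ) (φ : M ⟶ K), M.IsStrictlyLE b ∧
      FilD.IsFilteredQuasiIso φ := by
  classical
  let c₁ : ∀ n, (K.X n).obj ⟶ (K.X (n + 1)).obj := fun n => if n = b then (K.d n (n + 1)).hom else 0
  let c₂ : ∀ n, (K.X n).obj ⟶ (K.X n).obj := fun n => if b < n then 𝟙 _ else 0
  let w : ∀ n, (K.X n).obj ⟶ (K.X (n + 1)).obj ⊞ (K.X n).obj := fun n => biprod.lift (c₁ n) (c₂ n)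
  let tgt : ℤ → FilD.FilF A := fun n => ⟨_, isFinFil_biprod (K.X (n + 1)) (K.X n)⟩
  have hs : ∀ n, Str (w n) := fun n => by
    intro p q h T y x hyx
    haveI : Mono (tr ((K.X (n + 1)).obj ⊞ (K.X n).obj) h) := monoFil (tgt n) _
    by_cases h₁ : b < n
    · let y₂ := y ≫ (biprod.snd : (K.X (n + 1)).obj ⊞ (K.X n).obj ⟶ _).app (op q)
      refine ⟨T, 𝟙 _, inferInstance, y₂, ?_⟩
      have hw : (w n).app (op p) ≫ (biprod.snd : (K.X (n + 1)).obj ⊞ (K.X n).obj ⟶ _).app (op p) = 𝟙 _ := by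
        rw [← NatTrans.comp_app, biprod.lift_snd]
        simp [c₂, if_pos h₁]
      have hy : y₂ ≫ tr (K.X n).obj h = x := by
        simp only [y₂, Category.assoc, ← app_tr, reassoc_of% hyx, hw, Category.comp_id]
      rw [← cancel_mono (tr ((K.X (n + 1)).obj ⊞ (K.X n).obj) h), Category.id_comp, Category.assoc,
        ← app_tr, ← Category.assoc, hy, hyx]
    have e₂ : c₂ n = 0 := if_neg h₁
    have e : w n = c₁ n ≫ biprod.inl := by
      refine biprod.hom_ext _ _ ?_ ?_ <;> simp [w, e₂]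
    by_cases h₂ : n = b
    · have e₁ : c₁ n = (K.d n (n + 1)).hom := if_pos h₂
      have hd : Str (K.d n (n + 1)).hom :=
        str_left _ (K.d (n + 1) (n + 1 + 1)).hom (congrArg (fun m : K.X n ⟶ K.X (n + 1 + 1) => m.hom) (K.d_comp_d _ _ _))
          (monoFil (K.X (n + 1 + 1))) (exists_bound (K.X (n + 1)))
          (fun p => gr_exact_of_exactAt K p n (hK p (n + 1) (by omega)))
      obtain ⟨T', π, hπ, x', hx'⟩ := hd h (y ≫ (biprod.fst : (K.X (n + 1)).obj ⊞ (K.X n).obj ⟶ _).app (op q)) x (by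
        rw [Category.assoc, ← app_tr, ← Category.assoc, hyx, Category.assoc, ← NatTrans.comp_app,
          biprod.lift_fst, e₁])
      refine ⟨T', π, hπ, x', ?_⟩
      rw [e, e₁, NatTrans.comp_app, ← Category.assoc x', ← hx']
      have hy0 : y ≫ (biprod.snd : (K.X (n + 1)).obj ⊞ (K.X n).obj ⟶ _).app (op q) = 0 := by
        haveI : Mono (tr (K.X n).obj h) := monoFil (K.X n) _
        rw [← cancel_mono (tr (K.X n).obj h), Category.assoc, ← app_tr, ← Category.assoc, hyx,
          Category.assoc, ← NatTrans.comp_app, biprod.lift_snd, e₂]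
        simp
      conv_lhs => rw [← Category.comp_id y]
      rw [← NatTrans.id_app ((K.X (n + 1)).obj ⊞ (K.X n).obj), ← biprod.total, NatTrans.app_add,
        NatTrans.comp_app, NatTrans.comp_app, Preadditive.comp_add, reassoc_of% hy0, zero_comp, add_zero]
      simp only [Category.assoc]
    · refine ⟨T, 𝟙 _, inferInstance, 0, ?_⟩
      rw [← cancel_mono (tr ((K.X (n + 1)).obj ⊞ (K.X n).obj) h), Category.id_comp, hyx, e,
        show c₁ n = 0 from if_neg h₂]
      simp
  let P : ℤ → FilD.FilF A := fun n =>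
    ⟨kernel (w n), isFinFil_kernel (X := K.X n) (Y := tgt n) (ObjectProperty.homMk (w n))⟩
  let ι : ∀ n, P n ⟶ K.X n := fun n => ObjectProperty.homMk (kernel.ι (w n))
  have hιb : ∀ n, n = b → kernel.ι (w n) ≫ (K.d n (n + 1)).hom = 0 := fun n hn => by
    have := kernel.condition (w n) =≫ biprod.fst
    simpa [w, c₁, if_pos hn] using this
  have hιz : ∀ n, b < n → kernel.ι (w n) = 0 := fun n hn => by
    have := kernel.condition (w n) =≫ biprod.snd
    simpa [w, c₂, if_pos hn] using this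
  have hc : ∀ n, (kernel.ι (w n) ≫ (K.d n (n + 1)).hom) ≫ w (n + 1) = 0 := fun n => by
    refine biprod.hom_ext _ _ ?_ ?_
    · rw [Category.assoc, biprod.lift_fst, zero_comp]
      by_cases h : n + 1 = b
      · simp only [c₁, if_pos h, Category.assoc]
        rw [← ObjectProperty.FullSubcategory.comp_hom, K.d_comp_d]
        simp
      · simp [c₁, if_neg h]
    · rw [Category.assoc, biprod.lift_snd, zero_comp]
      by_cases h : b < n + 1
      · simp only [c₂, if_pos h, Category.comp_id]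
        by_cases h' : n = b
        · exact hιb n h'
        · rw [hιz n (by omega), zero_comp]
      · simp [c₂, if_neg h]
  let dM : ∀ n, P n ⟶ P (n + 1) := fun n =>
    ObjectProperty.homMk (kernel.lift (w (n + 1)) _ (hc n))
  have hdM : ∀ n, dM n ≫ ι (n + 1) = ι n ≫ K.d n (n + 1) := fun n =>
    InducedCategory.hom_ext (kernel.lift_ι _ _ _)
  haveI hιm : ∀ n, Mono (ι n) := fun n => ⟨fun g g' e => by
    apply InducedCategory.hom_ext
    rw [← cancel_mono (kernel.ι (w n))]
    exact congrArg (fun m => m.hom) e⟩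
  let M : CochainComplex (FilD.FilF A) ℤ := CochainComplex.of P dM (fun n => by
    rw [← cancel_mono (ι (n + 1 + 1)), Category.assoc, hdM, ← Category.assoc, hdM, Category.assoc,
      K.d_comp_d, comp_zero, zero_comp])
  have hMd : ∀ n, M.d n (n + 1) = dM n := fun n => CochainComplex.of_d P dM n
  let φ : M ⟶ K :=
    { f := ι
      comm' := fun n m hnm => by
        obtain rfl : n + 1 = m := hnm
        rw [hMd]
        exact (hdM n).symm }
  have hιz' : ∀ n, b < n → IsZero (P n) := fun n hn => by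
    rw [IsZero.iff_id_eq_zero, ← cancel_mono (ι n), zero_comp]
    exact InducedCategory.hom_ext (by
      change 𝟙 _ ≫ kernel.ι (w n) = 0
      rw [hιz n hn, comp_zero])
  refine ⟨M, φ, ?_, fun p => quasiIso_of_coneExact _ ?_⟩
  · rw [CochainComplex.isStrictlyLE_iff]
    exact fun n hn => hιz' n (by omega)
  · intro l n m hl hm T k₀ i₀ hk hki
    subst hl hm
    let k : T ⟶ (FilD.gr A p).obj (kernel (w (l + 1 + 1))) := k₀
    let i : T ⟶ (FilD.gr A p).obj (K.X (l + 1)).obj := i₀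
    have hki' : k ≫ (FilD.gr A p).map (kernel.ι (w (l + 1 + 1))) +
        i ≫ (FilD.gr A p).map (K.d (l + 1) (l + 1 + 1)).hom = 0 := hki
    by_cases h : b < l + 1
    · have hk0 : k = 0 := (isZero_gr (hιz' _ (by omega)) p).eq_of_tgt _ _
      rw [hk0, zero_comp, zero_add] at hki'
      obtain ⟨T', π, hπ, i', hi'⟩ := exact_elt K p l (l + 1) (l + 1 + 1) rfl rfl (hK p _ h) i hki'
      refine ⟨T', π, hπ, 0, i', ?_, ?_⟩
      · exact ((congrArg (π ≫ ·) hk0).trans comp_zero).trans
          (neg_zero.symm.trans (congrArg _ zero_comp.symm))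
      · exact hi'.trans ((zero_add _).symm.trans (congrArg (· + _) zero_comp.symm))
    have hiv : i ≫ (FilD.gr A p).map (w (l + 1)) = 0 := by
      have e₂ : c₂ (l + 1) = 0 := if_neg h
      have e : w (l + 1) = c₁ (l + 1) ≫ biprod.inl := by
        refine biprod.hom_ext _ _ ?_ ?_ <;> simp [w, e₂]
      by_cases h' : l + 1 = b
      · have hk0 : k = 0 := (isZero_gr (hιz' _ (by omega)) p).eq_of_tgt _ _
        rw [hk0, zero_comp, zero_add] at hki'
        rw [e, show c₁ (l + 1) = (K.d (l + 1) (l + 1 + 1)).hom from if_pos h', Functor.map_comp,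
          reassoc_of% hki', zero_comp]
      · rw [e, show c₁ (l + 1) = 0 from if_neg h']
        simp
    obtain ⟨T', π, hπ, k', hk'⟩ : ∃ (T' : A) (π : T' ⟶ T) (_ : Epi π)
        (k' : T' ⟶ (FilD.gr A p).obj (kernel (w (l + 1)))),
        π ≫ i = k' ≫ (FilD.gr A p).map (kernel.ι (w (l + 1))) :=
      ((str_iff_gr_kernel_exact (w (l + 1)) (monoFil (tgt (l + 1)))).mp (hs _) p).exact_up_to_refinements i hiv
    refine ⟨T', π, hπ, k', 0, ?_, ?_⟩
    · haveI : Mono ((FilD.gr A p).map (kernel.ι (w (l + 1 + 1)))) :=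
        gr_kernel_ι_mono (X := K.X (l + 1 + 1)) (Y := tgt (l + 1 + 1))
        (ObjectProperty.homMk (w (l + 1 + 1))) p
      suffices π ≫ k = -(k' ≫ (FilD.gr A p).map (dM (l + 1)).hom) by
        rw [← hMd] at this
        exact this
      rw [← cancel_mono ((FilD.gr A p).map (kernel.ι (w (l + 1 + 1)))), Preadditive.neg_comp]
      have h2 : (dM (l + 1)).hom ≫ kernel.ι (w (l + 1 + 1)) =
          kernel.ι (w (l + 1)) ≫ (K.d (l + 1) (l + 1 + 1)).hom := kernel.lift_ι _ _ _
      simp only [Category.assoc, ← Functor.map_comp, h2]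
      rw [Functor.map_comp, ← Category.assoc k', ← hk', Category.assoc, ← Preadditive.comp_neg]
      exact congrArg (π ≫ ·) (eq_neg_of_add_eq_zero_left hki')
    · exact hk'.trans ((add_zero _).symm.trans (congrArg _ zero_comp.symm))

end Groth.Misc1.Fil
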